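import Groth.Agent.H7Lim.TransReg.Immersion

/-!
# Transversally regular immersions descend along a cofiltered limit
-/

set_option autoImplicit false
set_option linter.style.haveILetI false
set_option backward.isDefEq.respectTransparency false
set_option backward.defeqAttrib.useBackward true

universe u

open CategoryTheory CategoryTheory.Limits AlgebraicGeometry TopologicalSpace

namespace Groth.Agent.H7Lim.TransReg

theorem isPullback_map_snd {Y₀ X₀ A B : Scheme.{u}} (j₀ : Y₀ ⟶ X₀) (a : A ⟶ B) (p : B ⟶ X₀) (q : A ⟶ X₀)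
    (h : a ≫ p = q) :
    IsPullback (pullback.map j₀ q j₀ p (𝟙 Y₀) a (𝟙 X₀) (by simp) (by simp [h]))
      (pullback.snd j₀ q) (pullback.snd j₀ p) a := by
  subst h
  exact IsPullback.of_right (h₁₂ := pullback.fst j₀ p) (h₂₂ := p) (v₁₃ := j₀)
    (by simpa using IsPullback.of_hasPullback j₀ (a ≫ p)) (by simp) (IsPullback.of_hasPullback j₀ p)

variable {I : Type u} [SmallCategory I] [IsCofiltered I] {D : I ⥤ Scheme.{u}} {c : Cone D}
  [∀ (i j : I) (f : i ⟶ j), IsAffineHom (D.map f)]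

theorem transRegImm_limit_iff (hc : IsLimit c) (i : I) {X₀ Y₀ : Scheme.{u}} (g₀ : X₀ ⟶ D.obj i)
    [LocallyOfFinitePresentation g₀] (j₀ : Y₀ ⟶ X₀) [CompactSpace Y₀] [IsImmersion j₀]
    [LocallyOfFinitePresentation j₀] :
    RegImm.IsTransRegularImmersion (pullback.snd g₀ (c.π.app i)) (pullback.snd j₀ (pullback.fst g₀ (c.π.app i))) ↔
      ∃ (j : I) (φ : j ⟶ i), RegImm.IsTransRegularImmersion (pullback.snd g₀ (D.map φ))
        (pullback.snd j₀ (pullback.fst g₀ (D.map φ))) := by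
  haveI := isAffineHom_π_app D c hc i
  let P := pbDiagram D i g₀
  let cP := pbCone D c i g₀
  have hP : IsLimit cP := isLimitPbCone D i g₀ hc
  haveI : ∀ (a b : Over i) (f : a ⟶ b), IsAffineHom (P.map f) := isAffineHom_pbDiagram_map D i g₀
  let ι : ∀ m : Over i, pullback j₀ (pullback.fst g₀ (D.map m.hom)) ⟶ P.obj m :=
    fun m => pullback.snd j₀ (pullback.fst g₀ (D.map m.hom))
  let Good : ∀ m : Over i, Set ↥(pullback j₀ (pullback.fst g₀ (D.map m.hom))) := fun m =>
    {y | RegImm.IsTransRegularImmersionAt (pullback.snd g₀ (D.map m.hom)) (ι m) y}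
  have hopen : ∀ m, IsOpen (Good m) := fun m => isOpen_iff_forall_mem_open.2 fun y hy => by
    obtain ⟨U, V, e, hyU, hcl, hrest⟩ := hy
    exact ⟨ι m ⁻¹ᵁ U.1, fun y' hy' => ⟨U, V, e, hy', hcl, hrest⟩, (ι m ⁻¹ᵁ U.1).2, hyU⟩
  have hfst : ∀ {m m' : Over i} (f : m ⟶ m'),
      P.map f ≫ pullback.fst g₀ (D.map m'.hom) = pullback.fst g₀ (D.map m.hom) := fun f => by simp [P]
  have hup : ∀ {m m' : Over i} (f : m ⟶ m') (y : ↥(pullback j₀ (pullback.fst g₀ (D.map m.hom)))),
      pullback.map j₀ (pullback.fst g₀ (D.map m.hom)) j₀ (pullback.fst g₀ (D.map m'.hom)) (𝟙 Y₀) (P.map f) (𝟙 X₀)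
        (by simp) (by simp [hfst f]) y ∈ Good m' → y ∈ Good m := fun {m m'} f y hy =>
    transRegImmAt_baseChange (isPullback_pbDiagram_map D i g₀ f)
      (isPullback_map_snd j₀ (P.map f) _ _ (hfst f)) y hy
  constructor
  · rintro ⟨-, hz⟩
    choose mz O hxO hgood using fun z => exists_transRegImmAt_stage hc i g₀ j₀ z (hz z)
    haveI : CompactSpace ↥(pullback j₀ (pullback.fst g₀ (c.π.app i))) :=
      QuasiCompact.compactSpace_of_compactSpace (pullback.fst j₀ (pullback.fst g₀ (c.π.app i)))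
    let il := pullback.snd j₀ (pullback.fst g₀ (c.π.app i))
    obtain ⟨s, hs⟩ := isCompact_univ.elim_finite_subcover
      (fun w => ((il ≫ cP.π.app (mz w)) ⁻¹ᵁ O w : Set ↥(pullback j₀ (pullback.fst g₀ (c.π.app i)))))
      (fun w => ((il ≫ cP.π.app (mz w)) ⁻¹ᵁ O w).2) (fun z _ => Set.mem_iUnion.2 ⟨z, hxO z⟩)
    classical
    obtain ⟨m, hm⟩ := IsCofiltered.inf_objs_exists (s.image mz)
    haveI : CompactSpace ↥(pullback j₀ (pullback.fst g₀ (D.map m.hom))) :=
      QuasiCompact.compactSpace_of_compactSpace (pullback.fst j₀ (pullback.fst g₀ (D.map m.hom)))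
    have hbad : QCImage (ι m '' (Good m)ᶜ) := by
      obtain ⟨κ, hκ, T, a, hT, ha⟩ :=
        (qcImage_range (𝟙 (pullback j₀ (pullback.fst g₀ (D.map m.hom))))).inter_isClosed (hopen m).isClosed_compl
      refine ⟨κ, hκ, T, fun b => a b ≫ ι m, hT, ?_⟩
      simp only [Scheme.Hom.comp_base, TopCat.coe_comp, Set.range_comp]
      rw [← Set.image_iUnion, ha]
      simp
    have hempty : cP.π.app m ⁻¹' (ι m '' (Good m)ᶜ) = ∅ := by
      refine Set.eq_empty_iff_forall_notMem.2 fun p ⟨y, hy, hyp⟩ => hy ?_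
      have hp : pullback.fst g₀ (c.π.app i) p = j₀ (pullback.fst j₀ (pullback.fst g₀ (D.map m.hom)) y) := by
        refine (apply_of_comp (show cP.π.app m ≫ pullback.fst g₀ (D.map m.hom) = pullback.fst g₀ (c.π.app i) by
          simp [cP]) p).symm.trans ((congrArg _ hyp.symm).trans ?_)
        exact (apply_of_comp pullback.condition.symm y).trans
          (apply_of_comp (rfl : pullback.fst j₀ _ ≫ j₀ = _) y).symm
      obtain ⟨z, -, hzp⟩ := Scheme.Pullback.exists_preimage_pullback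
        (f := j₀) (g := pullback.fst g₀ (c.π.app i)) _ p hp.symm
      obtain ⟨w, hw, hzw⟩ := Set.mem_iUnion₂.1 (hs (Set.mem_univ z))
      obtain ⟨f⟩ := hm (Finset.mem_image_of_mem mz hw)
      refine hup f y (hgood w _ ?_)
      refine (congrArg (· ∈ O w) ?_).mpr hzw
      refine (apply_of_comp (isPullback_map_snd j₀ (P.map f) _ _ (hfst f)).w y).trans ?_
      refine (apply_of_comp (rfl : ι m ≫ P.map f = _) y).symm.trans ?_
      refine (congrArg (P.map f) hyp).trans ?_
      refine (apply_of_comp (cP.w f) p).trans ?_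
      exact (congrArg (cP.π.app (mz w)) hzp.symm).trans (apply_of_comp (rfl : il ≫ cP.π.app (mz w) = _) z)
    haveI := isAffineHom_π_app P cP hP m
    obtain ⟨k, ψ, hk⟩ := hbad.exists_preimage_eq_empty hP hempty
    refine ⟨k.left, k.hom, MorphismProperty.pullback_snd _ _ inferInstance, fun y => ?_⟩
    refine hup ψ y (not_not.1 fun hy => ?_)
    refine (Set.eq_empty_iff_forall_notMem.1 hk (ι k y)) ⟨_, hy, ?_⟩
    exact (apply_of_comp (isPullback_map_snd j₀ (P.map ψ) _ _ (hfst ψ)).w y).trans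
      (apply_of_comp (rfl : ι k ≫ P.map ψ = _) y).symm
  · rintro ⟨j, φ, -, h⟩
    refine ⟨MorphismProperty.pullback_snd _ _ inferInstance, fun z => ?_⟩
    haveI := isAffineHom_π_app D c hc (Over.mk φ).left
    exact transRegImmAt_baseChange (isPullback_pbCone i g₀ (Over.mk φ))
      (isPullback_map_snd j₀ (cP.π.app (Over.mk φ)) (pullback.fst g₀ (D.map φ)) (pullback.fst g₀ (c.π.app i))
        (by simp [cP])) z (h _)

end Groth.Agent.H7Lim.TransReg
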