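import Groth.Agent.H7Lim.TransReg.Scheme
import Groth.Agent.H29Slice.RestrictKer
import Groth.Agent.H11QMap.LineImm

/-!
# Transversally regular immersions over a cofiltered limit
-/

set_option autoImplicit false
set_option linter.style.haveILetI false
set_option maxHeartbeats 1000000
set_option backward.isDefEq.respectTransparency false
set_option backward.defeqAttrib.useBackward true

universe u

open CategoryTheory CategoryTheory.Limits AlgebraicGeometry TensorProduct TopologicalSpace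

namespace Groth.Agent.H7Lim.TransReg

theorem apply_of_comp {A B C : Scheme.{u}} {a : A ⟶ B} {b : B ⟶ C} {k : A ⟶ C} (h : a ≫ b = k) (x : A) :
    b (a x) = k x := by
  subst h; rfl

theorem appLE_of_comp {A B C : Scheme.{u}} {a : A ⟶ B} {b : B ⟶ C} {k : A ⟶ C} (h : a ≫ b = k)
    {U : C.Opens} {V : B.Opens} {W : A.Opens} (e₁ : V ≤ b ⁻¹ᵁ U) (e₂ : W ≤ a ⁻¹ᵁ V) (e₃ : W ≤ k ⁻¹ᵁ U) :
    b.appLE U V e₁ ≫ a.appLE V W e₂ = k.appLE U W e₃ := by
  subst h; exact Scheme.Hom.appLE_comp_appLE ..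

theorem appLE_of_comp_apply {A B C : Scheme.{u}} {a : A ⟶ B} {b : B ⟶ C} {k : A ⟶ C} (h : a ≫ b = k)
    {U : C.Opens} {V : B.Opens} {W : A.Opens} (e₁ : V ≤ b ⁻¹ᵁ U) (e₂ : W ≤ a ⁻¹ᵁ V) (e₃ : W ≤ k ⁻¹ᵁ U)
    (y : Γ(C, U)) : a.appLE V W e₂ (b.appLE U V e₁ y) = k.appLE U W e₃ y :=
  congr($(appLE_of_comp h e₁ e₂ e₃) y)

theorem ofList_ofFn_eq_span {R : Type u} [CommRing R] {n : ℕ} (f : Fin n → R) :
    Ideal.ofList (List.ofFn f) = Ideal.span (Set.range f) := by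
  refine congrArg Ideal.span (Set.ext fun x => ?_)
  simp [List.mem_ofFn]

/-- Transversal regularity on a chart is preserved by affine base change. -/
theorem trSec_baseChange {X S S' P : Scheme.{u}} {g : X ⟶ S} {b : S' ⟶ S} {pr : P ⟶ X} {q : P ⟶ S'}
    (HS : IsPullback pr q g b) [IsAffineHom b] {W : X.Opens} (hW : IsAffineOpen W)
    {V : S.Opens} (hV : IsAffineOpen V) (e : W ≤ g ⁻¹ᵁ V) (ls : List Γ(X, W)) (h : TRSec g e ls) :
    ∃ (_ : IsAffineOpen (pr ⁻¹ᵁ W)) (e' : pr ⁻¹ᵁ W ≤ q ⁻¹ᵁ (b ⁻¹ᵁ V)),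
      TRSec q e' (ls.map fun f => pr.appLE W (pr ⁻¹ᵁ W) le_rfl f) := by
  obtain ⟨hU, e', hiff⟩ := sec_square_iff g HS hW hV e ls
  refine ⟨hU, e', hiff.2 ?_⟩
  letI := (g.appLE V W e).hom.toAlgebra
  letI := (b.appLE V (b ⁻¹ᵁ V) le_rfl).hom.toAlgebra
  have h1 := H29Slice.isTransRegularSeq_of_algEquiv (Algebra.TensorProduct.lid Γ(S, V) Γ(X, W)).symm
    (show RegImm.IsTransRegularSeq Γ(S, V) Γ(X, W) ls from h)
  have h2 : RegImm.IsTransRegularSeq Γ(S, V) (Γ(S, V) ⊗[Γ(S, V)] Γ(X, W))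
      (ls.map fun f => (1 : Γ(S, V)) ⊗ₜ[Γ(S, V)] f) :=
    Eq.mp (congrArg (RegImm.IsTransRegularSeq Γ(S, V) (Γ(S, V) ⊗[Γ(S, V)] Γ(X, W)))
      (List.map_congr_left fun f _ => rfl)) h1
  exact isTransRegularSeq_tensor_map (Algebra.ofId Γ(S, V) Γ(S', b ⁻¹ᵁ V)) ls h2

/-- Transversal regularity of an immersion at a point is preserved by affine base change. -/
theorem transRegImmAt_baseChange {X S S' P Z Z' : Scheme.{u}} {g : X ⟶ S} {b : S' ⟶ S} {pr : P ⟶ X} {q : P ⟶ S'}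
    (HS : IsPullback pr q g b) [IsAffineHom b] {i : Z ⟶ X} {i' : Z' ⟶ P} {h : Z' ⟶ Z}
    (H : IsPullback h i' i pr) (z' : Z') (hz : RegImm.IsTransRegularImmersionAt g i (h z')) :
    RegImm.IsTransRegularImmersionAt q i' z' := by
  obtain ⟨U, V, e, hzU, hcl, rs, hrs, hker⟩ := hz
  obtain ⟨hU, e', h'⟩ := trSec_baseChange HS U.2 V.2 e rs hrs
  obtain ⟨hcl', hker'⟩ := H29Slice.restrict_baseChange H U.2 hcl hU (e := le_rfl)
  refine ⟨⟨_, hU⟩, ⟨_, V.2.preimage b⟩, e', ?_, hcl', _, h', ?_⟩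
  · show pr (i' z') ∈ U.1
    rw [← Scheme.Hom.comp_apply, ← H.w]
    exact hzU
  · rw [hker', hker, Ideal.map_ofList]

variable {I : Type u} [SmallCategory I] [IsCofiltered I] {D : I ⥤ Scheme.{u}} {c : Cone D}
  [∀ (i j : I) (f : i ⟶ j), IsAffineHom (D.map f)]

omit [∀ (i j : I) (f : i ⟶ j), IsAffineHom (D.map f)] [IsCofiltered I] in
theorem exists_cast_secπ {i j : I} {φ φ' : j ⟶ i} (h : φ = φ') (U : (D.obj i).Opens)
    (s : Γ(D.obj j, D.map φ ⁻¹ᵁ U)) :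
    ∃ s' : Γ(D.obj j, D.map φ' ⁻¹ᵁ U), secπ (c := c) φ' U s' = secπ (c := c) φ U s := by
  subst h; exact ⟨s, rfl⟩

/-- Membership in a finitely generated ideal in the limit holds at some stage. -/
theorem exists_mem_span_stage (hc : IsLimit c) {i j : I} (φ : j ⟶ i) {U : (D.obj i).Opens}
    (hU : IsAffineOpen U) {κ : Type} [Fintype κ] (t : κ → Γ(D.obj j, D.map φ ⁻¹ᵁ U))
    (x : Γ(D.obj j, D.map φ ⁻¹ᵁ U))
    (h : secπ (c := c) φ U x ∈ Ideal.span (Set.range fun a => secπ (c := c) φ U (t a))) :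
    ∃ (k : I) (ψ : k ⟶ j), secMap φ ψ U x ∈ Ideal.span (Set.range fun a => secMap φ ψ U (t a)) := by
  obtain ⟨a, ha⟩ := (Ideal.mem_span_range_iff_exists_fun).1 h
  obtain ⟨k₁, φ₁, a', ha'⟩ := exists_secπ_eq_finite hc hU a
  obtain ⟨k, ψ, ψ₁, hk⟩ := IsCofiltered.cospan φ φ₁
  choose a'' ha'' using fun b => exists_cast_secπ (c := c) hk.symm U (secMap φ₁ ψ₁ U (a' b))
  have hlim : secπ (c := c) (ψ ≫ φ) U (secMap φ ψ U x) =
      secπ (c := c) (ψ ≫ φ) U (∑ b, a'' b * secMap φ ψ U (t b)) := by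
    rw [secπ_secMap_apply, map_sum, ← ha]
    refine Finset.sum_congr rfl fun b _ => ?_
    rw [map_mul, secπ_secMap_apply, ha'', secπ_secMap_apply, ha']
  obtain ⟨m, χ, hm⟩ := exists_secMap_eq hc (ψ ≫ φ) hU.isCompact _ _ hlim
  refine ⟨m, χ ≫ ψ, ?_⟩
  have hle : D.map ((χ ≫ ψ) ≫ φ) ⁻¹ᵁ U = D.map (χ ≫ ψ ≫ φ) ⁻¹ᵁ U := by rw [Category.assoc]
  have hcomp : ∀ y, secMap φ (χ ≫ ψ) U y =
      (D.obj m).presheaf.map (eqToHom hle).op (secMap (ψ ≫ φ) χ U (secMap φ ψ U y)) := fun y => by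
    have h1 : secMap φ (χ ≫ ψ) U = secMap φ ψ U ≫ secMap (ψ ≫ φ) χ U ≫ (D.obj m).presheaf.map (eqToHom hle).op := by
      simp only [secMap]
      rw [Scheme.Hom.appLE_map, appLE_of_comp (D.map_comp χ ψ).symm]
    exact congr($h1 y)
  rw [Ideal.mem_span_range_iff_exists_fun]
  refine ⟨fun b => (D.obj m).presheaf.map (eqToHom hle).op (secMap (ψ ≫ φ) χ U (a'' b)), ?_⟩
  rw [hcomp x, hm, map_sum, map_sum]
  exact Finset.sum_congr rfl fun b _ => by rw [map_mul, map_mul, hcomp]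

/-- An equality of finitely generated ideals in the limit holds at some stage. -/
theorem exists_ideal_eq_stage (hc : IsLimit c) {i j : I} (φ : j ⟶ i) {U : (D.obj i).Opens}
    (hU : IsAffineOpen U) {n : ℕ} (t : Fin n → Γ(D.obj j, D.map φ ⁻¹ᵁ U)) (K : Ideal Γ(D.obj j, D.map φ ⁻¹ᵁ U))
    (hK : K.FG) (h : K.map (secπ (c := c) φ U).hom = Ideal.span (Set.range fun a => secπ (c := c) φ U (t a))) :
    ∃ (k : I) (ψ : k ⟶ j), K.map (secMap φ ψ U).hom = Ideal.span (Set.range fun a => secMap φ ψ U (t a)) := by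
  obtain ⟨m, gen, hgen⟩ := Submodule.fg_iff_exists_fin_generating_family.1 hK
  replace hgen : Ideal.span (Set.range gen) = K := hgen
  have hKmap : ∀ {R : Type u} [CommRing R] (f : Γ(D.obj j, D.map φ ⁻¹ᵁ U) →+* R),
      K.map f = Ideal.span (Set.range fun a => f (gen a)) := fun f => by
    rw [← hgen, Ideal.map_span, ← Set.range_comp]; rfl
  have hcomp : ∀ {k k' : I} (ψ : k ⟶ j) (χ : k' ⟶ k) (hle : D.map ((χ ≫ ψ) ≫ φ) ⁻¹ᵁ U ≤ D.map χ ⁻¹ᵁ (D.map (ψ ≫ φ) ⁻¹ᵁ U)) y,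
      (D.map χ).appLE _ _ hle (secMap φ ψ U y) = secMap φ (χ ≫ ψ) U y := fun ψ χ hle y =>
    appLE_of_comp_apply (D.map_comp χ ψ).symm _ _ _ y
  obtain ⟨k, ψ, hk⟩ := exists_common_stage j
    (fun (p : Fin m ⊕ Fin n) k (ψ : k ⟶ j) => match p with
      | .inl a => secMap φ ψ U (gen a) ∈ Ideal.span (Set.range fun b => secMap φ ψ U (t b))
      | .inr b => secMap φ ψ U (t b) ∈ Ideal.span (Set.range fun a => secMap φ ψ U (gen a)))
    (fun p => by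
      rcases p with a | b
      · refine exists_mem_span_stage hc φ hU t _ ?_
        rw [← h, hKmap]
        exact Ideal.subset_span ⟨a, rfl⟩
      · refine exists_mem_span_stage hc φ hU gen _ ?_
        have : secπ (c := c) φ U (t b) ∈ K.map (secπ (c := c) φ U).hom := by
          rw [h]; exact Ideal.subset_span ⟨b, rfl⟩
        rw [hKmap] at this
        exact this)
    (fun p k k' ψ χ hp => by
      have hle : D.map ((χ ≫ ψ) ≫ φ) ⁻¹ᵁ U ≤ D.map χ ⁻¹ᵁ (D.map (ψ ≫ φ) ⁻¹ᵁ U) := by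
        rw [← Scheme.Hom.comp_preimage, ← D.map_comp, Category.assoc]
      have key : ∀ {N : ℕ} (v : Fin N → Γ(D.obj j, D.map φ ⁻¹ᵁ U)) (y : Γ(D.obj j, D.map φ ⁻¹ᵁ U)),
          secMap φ ψ U y ∈ Ideal.span (Set.range fun b => secMap φ ψ U (v b)) →
            secMap φ (χ ≫ ψ) U y ∈ Ideal.span (Set.range fun b => secMap φ (χ ≫ ψ) U (v b)) := by
        intro N v y hy
        have h1 := Ideal.mem_map_of_mem ((D.map χ).appLE _ _ hle).hom hy
        rw [Ideal.map_span, ← Set.range_comp, Function.comp_def] at h1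
        simp only [hcomp] at h1
        exact h1
      rcases p with a | b
      · exact key t _ hp
      · exact key gen _ hp)
  refine ⟨k, ψ, ?_⟩
  rw [hKmap]
  exact le_antisymm (Ideal.span_le.2 fun y ⟨a, hy⟩ => hy ▸ hk (.inl a))
    (Ideal.span_le.2 fun y ⟨b, hy⟩ => hy ▸ hk (.inr b))

omit [IsCofiltered I] [∀ (i j : I) (f : i ⟶ j), IsAffineHom (D.map f)] in
/-- The square relating the limit and a stage after base change. -/
theorem isPullback_pbCone (i : I) {T : Scheme.{u}} (a : T ⟶ D.obj i) (k : Over i) :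
    IsPullback ((pbCone D c i a).π.app k) (pullback.snd a (c.π.app i)) (pullback.snd a (D.map k.hom))
      (c.π.app k.left) :=
  IsPullback.of_right (h₁₂ := pullback.fst a (D.map k.hom)) (h₂₂ := D.map k.hom) (v₁₃ := a)
    (by simpa using IsPullback.of_hasPullback a (c.π.app i)) (by simp)
    (IsPullback.of_hasPullback a (D.map k.hom))

/-- An immersion locally of finite presentation, transversally regular at a point over the limit, is so at a stage. -/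
theorem exists_transRegImmAt_stage (hc : IsLimit c) (i : I) {X₀ Y₀ : Scheme.{u}} (g₀ : X₀ ⟶ D.obj i)
    [LocallyOfFinitePresentation g₀] (j₀ : Y₀ ⟶ X₀) [IsImmersion j₀] [LocallyOfFinitePresentation j₀]
    (z : ↥(pullback j₀ (pullback.fst g₀ (c.π.app i))))
    (h : RegImm.IsTransRegularImmersionAt (pullback.snd g₀ (c.π.app i))
      (pullback.snd j₀ (pullback.fst g₀ (c.π.app i))) z) :
    ∃ (m : Over i) (O : (pullback g₀ (D.map m.hom)).Opens),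
      (pbCone D c i g₀).π.app m (pullback.snd j₀ (pullback.fst g₀ (c.π.app i)) z) ∈ O ∧
      ∀ y, pullback.snd j₀ (pullback.fst g₀ (D.map m.hom)) y ∈ O →
        RegImm.IsTransRegularImmersionAt (pullback.snd g₀ (D.map m.hom))
          (pullback.snd j₀ (pullback.fst g₀ (D.map m.hom))) y := by
  haveI := isAffineHom_π_app D c hc i
  let P := pbDiagram D i g₀
  let cP := pbCone D c i g₀
  have hP : IsLimit cP := isLimitPbCone D i g₀ hc
  haveI : ∀ (a b : Over i) (f : a ⟶ b), IsAffineHom (P.map f) := isAffineHom_pbDiagram_map D i g₀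
  set ι := pullback.snd j₀ (pullback.fst g₀ (c.π.app i)) with hι
  set x := ι z with hx
  obtain ⟨U, V, e, hzU, hcl, rs, hrs, hker⟩ := h
  -- a chart of `j₀`
  obtain ⟨V₀, hV₀, hxV₀, -⟩ := exists_isAffineOpen_mem_and_subset
    (x := g₀ (pullback.fst g₀ (c.π.app i) x)) (U := (⊤ : (D.obj i).Opens)) trivial
  have hxcob : pullback.fst g₀ (c.π.app i) x ∈ j₀.coborderRange := by
    have hw : pullback.fst g₀ (c.π.app i) x = j₀ (pullback.fst j₀ (pullback.fst g₀ (c.π.app i)) z) := by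
      rw [hx, hι, ← Scheme.Hom.comp_apply, ← pullback.condition, Scheme.Hom.comp_apply]
    rw [hw]
    exact subset_coborder ⟨_, rfl⟩
  obtain ⟨W₀, hW₀, hxW₀, hW₀le⟩ := exists_isAffineOpen_mem_and_subset (x := pullback.fst g₀ (c.π.app i) x)
    (U := g₀ ⁻¹ᵁ V₀ ⊓ j₀.coborderRange) ⟨hxV₀, hxcob⟩
  have hcl₀ : IsClosedImmersion (j₀ ∣_ W₀) :=
    H11QMap.isClosedImmersion_restrict_of_le_coborderRange j₀ fun p hp => (hW₀le hp).2
  obtain ⟨hpre, hsurj⟩ := H29Slice.preimage_affine_and_surjective j₀ hW₀ hcl₀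
  have hI₀ : (RingHom.ker (j₀.app W₀).hom).FG := by
    letI := (j₀.app W₀).hom.toAlgebra
    haveI : Algebra.FinitePresentation Γ(X₀, W₀) Γ(Y₀, j₀ ⁻¹ᵁ W₀) := by
      have := LocallyOfFinitePresentation.finitePresentation_appLE j₀ hW₀ hpre le_rfl
      rw [← Scheme.Hom.app_eq_appLE] at this
      exact this
    exact Algebra.FinitePresentation.ker_fG_of_surjective (Algebra.ofId Γ(X₀, W₀) Γ(Y₀, j₀ ⁻¹ᵁ W₀)) hsurj
  -- an affine open at a stage whose preimage lies in `U`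
  obtain ⟨U₁, hU₁, hxU₁, hU₁le⟩ := exists_isAffineOpen_mem_and_subset (x := x)
    (U := U.1 ⊓ pullback.fst g₀ (c.π.app i) ⁻¹ᵁ W₀) ⟨hzU, hxW₀⟩
  obtain ⟨k, -, O₁, hO₁, -, hO₁U⟩ := exists_isCompact_isOpen_preimage_eq hP (Over.mk (𝟙 i))
    U₁.2 hU₁.isCompact
  have hfst : cP.π.app k ≫ pullback.fst g₀ (D.map k.hom) = pullback.fst g₀ (c.π.app i) := by
    simp [cP]
  have hxO₁ : cP.π.app k x ∈ O₁ := (Set.ext_iff.1 hO₁U x).2 hxU₁
  obtain ⟨O, hO, hxO, hOle⟩ := exists_isAffineOpen_mem_and_subset (x := cP.π.app k x)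
    (U := (⟨O₁, hO₁⟩ : (P.obj k).Opens) ⊓ pullback.fst g₀ (D.map k.hom) ⁻¹ᵁ W₀)
    ⟨hxO₁, (congrArg (· ∈ W₀) (apply_of_comp hfst x)).mpr hxW₀⟩
  haveI := isAffineHom_π_app P cP hP k
  let U₂ : (pullback g₀ (c.π.app i)).Opens := cP.π.app k ⁻¹ᵁ O
  have hU₂ : IsAffineOpen U₂ := hO.preimage _
  have hU₂U : U₂ ≤ U.1 := fun p hp => (hU₁le ((Set.ext_iff.1 hO₁U p).1 (hOle hp).1)).1
  haveI := isAffineHom_π_app D c hc k.left
  let Vk := D.map k.hom ⁻¹ᵁ V₀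
  have hVk : IsAffineOpen Vk := hV₀.preimage _
  have hOV : ∀ p ∈ O, pullback.snd g₀ (D.map k.hom) p ∈ Vk := fun p hp =>
    (congrArg (· ∈ V₀) (apply_of_comp pullback.condition.symm p)).mpr
      ((congrArg (· ∈ V₀) (apply_of_comp (rfl : pullback.fst g₀ (D.map k.hom) ≫ g₀ = _) p)).mp
        (hW₀le (hOle hp).2).1)
  have eU₂ : U₂ ≤ pullback.snd g₀ (c.π.app i) ⁻¹ᵁ (c.π.app k.left ⁻¹ᵁ Vk) := fun p hp =>
    (congrArg (· ∈ Vk) ((apply_of_comp (isPullback_pbCone i g₀ k).w.symm p).trans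
      (apply_of_comp (rfl : cP.π.app k ≫ pullback.snd g₀ (D.map k.hom) = _) p).symm)).mpr (hOV _ hp)
  let res : Γ(pullback g₀ (c.π.app i), U.1) → Γ(pullback g₀ (c.π.app i), U₂) :=
    fun f => (pullback g₀ (c.π.app i)).presheaf.map (homOfLE hU₂U).op f
  have hrs₂ : TRSec (pullback.snd g₀ (c.π.app i)) eU₂ (rs.map res) :=
    trSec_res _ U.2 hU₂ V.2 (hVk.preimage (c.π.app k.left)) e eU₂ hU₂U rs hrs
  obtain ⟨-, hker₂⟩ := H29Slice.restrict_baseChange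
    (show IsPullback (𝟙 _) ι ι (𝟙 _) from IsPullback.of_horiz_isIso ⟨by simp⟩) U.2 hcl hU₂ (e := hU₂U)
  rw [hker, Ideal.map_ofList, show rs.map ((𝟙 (pullback g₀ (c.π.app i)) : _ ⟶ _).appLE U.1 U₂ hU₂U).hom = rs.map res from
    List.map_congr_left fun f _ => by simp [Scheme.Hom.appLE, res]] at hker₂
  obtain ⟨l, φ, t, ht⟩ := exists_secπ_eq_finite hP hO (fun a : Fin rs.length => res rs[(a : ℕ)])
  have hlist : (List.ofFn fun a => secπ (c := cP) φ O (t a)) = rs.map res := by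
    rw [show (fun a => secπ (c := cP) φ O (t a)) = fun a : Fin rs.length => res rs[(a : ℕ)] from funext ht]
    exact List.ofFn_getElem_eq_map rs res
  -- the kernel at the stages
  have hmapfst : ∀ {m m' : Over i} (χ : m ⟶ m'),
      P.map χ ≫ pullback.fst g₀ (D.map m'.hom) = pullback.fst g₀ (D.map m.hom) := fun χ => by simp [P]
  have hW : ∀ {m : Over i} (χ : m ⟶ k), P.map χ ⁻¹ᵁ O ≤ pullback.fst g₀ (D.map m.hom) ⁻¹ᵁ W₀ :=
    fun χ p hp => (congrArg (· ∈ W₀) (apply_of_comp (hmapfst χ) p)).mp (hOle hp).2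
  have hWlim : U₂ ≤ pullback.fst g₀ (c.π.app i) ⁻¹ᵁ W₀ := fun p hp =>
    (congrArg (· ∈ W₀) (apply_of_comp hfst p)).mp (hOle hp).2
  obtain ⟨-, hkerlim⟩ := H29Slice.restrict_baseChange
    (IsPullback.of_hasPullback j₀ (pullback.fst g₀ (c.π.app i))) hW₀ hcl₀ hU₂ (e := hWlim)
  let K : Ideal Γ(P.obj l, P.map φ ⁻¹ᵁ O) := (RingHom.ker (j₀.app W₀).hom).map
    ((pullback.fst g₀ (D.map l.hom)).appLE W₀ (P.map φ ⁻¹ᵁ O) (hW φ)).hom
  have hfstl : cP.π.app l ≫ pullback.fst g₀ (D.map l.hom) = pullback.fst g₀ (c.π.app i) := by simp [cP]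
  obtain ⟨l₂, ψ₂, hl₂⟩ := exists_ideal_eq_stage hP φ hO t K (Ideal.FG.map hI₀ _) (by
    rw [Ideal.map_map, ← CommRingCat.hom_comp]
    refine (congrArg (fun r => Ideal.map (CommRingCat.Hom.hom r) (RingHom.ker (j₀.app W₀).hom))
      (appLE_of_comp hfstl (hW φ) _ hWlim)).trans ?_
    rw [← ofList_ofFn_eq_span, hlist]
    exact hkerlim.symm.trans hker₂)
  let χ₂ : l₂ ⟶ k := ψ₂ ≫ φ
  let L₂ : List Γ(P.obj l₂, P.map χ₂ ⁻¹ᵁ O) := List.ofFn fun a => secMap φ ψ₂ O (t a)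
  have hO₂ : IsAffineOpen (P.map χ₂ ⁻¹ᵁ O) := hO.preimage _
  have hK₂ : (RingHom.ker (j₀.app W₀).hom).map
      ((pullback.fst g₀ (D.map l₂.hom)).appLE W₀ (P.map χ₂ ⁻¹ᵁ O) (hW χ₂)).hom = Ideal.ofList L₂ := by
    rw [ofList_ofFn_eq_span, ← hl₂, Ideal.map_map, ← CommRingCat.hom_comp]
    exact (congrArg (fun r => Ideal.map (CommRingCat.Hom.hom r) (RingHom.ker (j₀.app W₀).hom))
      (appLE_of_comp (hmapfst ψ₂) (hW φ) _ (hW χ₂))).symm
  -- transversal regularity at a further stage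
  let g₂ := pullback.snd g₀ (D.map l₂.hom)
  let V₂ := D.map l₂.hom ⁻¹ᵁ V₀
  haveI : LocallyOfFinitePresentation g₂ := MorphismProperty.pullback_snd _ _ inferInstance
  haveI := isAffineHom_π_app D c hc l₂.left
  have e₂ : P.map χ₂ ⁻¹ᵁ O ≤ g₂ ⁻¹ᵁ V₂ := fun p hp =>
    (congrArg (· ∈ V₀) (apply_of_comp pullback.condition.symm p)).mpr
      ((congrArg (· ∈ V₀) (apply_of_comp (rfl : pullback.fst g₀ (D.map l₂.hom) ≫ g₀ = _) p)).mp
        (hW₀le (hW χ₂ hp)).1)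
  have hπ₂ : cP.π.app l₂ ⁻¹ᵁ (P.map χ₂ ⁻¹ᵁ O) = U₂ := by
    rw [← Scheme.Hom.comp_preimage, cP.w]
  have hV₂ : IsAffineOpen V₂ := hV₀.preimage _
  have eLim : cP.π.app l₂ ⁻¹ᵁ (P.map χ₂ ⁻¹ᵁ O) ≤ pullback.snd g₀ (c.π.app i) ⁻¹ᵁ (c.π.app l₂.left ⁻¹ᵁ V₂) :=
    fun p hp => (congrArg (· ∈ V₂) ((apply_of_comp (isPullback_pbCone i g₀ l₂).w.symm p).trans
      (apply_of_comp (rfl : cP.π.app l₂ ≫ g₂ = _) p).symm)).mpr (e₂ hp)
  haveI := isAffineHom_π_app P cP hP l₂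
  have hTRlim : TRSec (pullback.snd g₀ (c.π.app i)) eLim
      (L₂.map fun f => (cP.π.app l₂).appLE _ _ le_rfl f) := by
    refine Eq.mp (congrArg (TRSec _ eLim) ?_)
      (trSec_res _ hU₂ (hO₂.preimage _) (hVk.preimage (c.π.app k.left)) (hV₂.preimage _) eU₂ eLim hπ₂.le _ hrs₂)
    rw [← hlist, List.map_ofFn, List.map_ofFn]
    refine congrArg List.ofFn (funext fun a => ?_)
    have h1 : secπ (c := cP) φ O ≫ (pullback g₀ (c.π.app i)).presheaf.map (homOfLE hπ₂.le).op =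
        secMap φ ψ₂ O ≫ (cP.π.app l₂).appLE (P.map χ₂ ⁻¹ᵁ O) _ le_rfl := by
      rw [secMap, appLE_of_comp (cP.w ψ₂) _ _ (show cP.π.app l₂ ⁻¹ᵁ (P.map χ₂ ⁻¹ᵁ O) ≤ cP.π.app l ⁻¹ᵁ (P.map φ ⁻¹ᵁ O) by
        rw [hπ₂, ← Scheme.Hom.comp_preimage, cP.w]), secπ]
      exact Scheme.Hom.appLE_map ..
    exact congr($h1 (t a))
  obtain ⟨j', θ, hθ⟩ := (sec_limit_iff hc l₂.left g₂ hO₂ hV₂ e₂ L₂ (isPullback_pbCone i g₀ l₂) eLim).1 hTRlim
  let m : Over i := Over.mk (θ ≫ l₂.hom)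
  let Θ : m ⟶ l₂ := Over.homMk θ
  have hθ' : D.map (𝟙 j' ≫ θ) = D.map θ := by rw [Category.id_comp]
  have Hm : IsPullback (P.map Θ) (pullback.snd g₀ (D.map m.hom)) g₂ (D.map (𝟙 j' ≫ θ)) := by
    rw [hθ']; exact isPullback_pbDiagram_map D i g₀ Θ
  obtain ⟨hOm, em, -⟩ := sec_square_iff g₂ Hm hO₂ hV₂ e₂ []
  have hTRm := hθ j' (𝟙 j') Hm em
  have hWm : P.map Θ ⁻¹ᵁ (P.map χ₂ ⁻¹ᵁ O) ≤ pullback.fst g₀ (D.map m.hom) ⁻¹ᵁ W₀ := fun p hp =>
    (congrArg (· ∈ W₀) (apply_of_comp (hmapfst Θ) p)).mp (hW χ₂ hp)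
  refine ⟨m, P.map Θ ⁻¹ᵁ (P.map χ₂ ⁻¹ᵁ O), ?_, fun y hy => ?_⟩
  · exact (congrArg (· ∈ O) ((congrArg (P.map χ₂) (apply_of_comp (cP.w Θ) x)).trans
      (apply_of_comp (cP.w χ₂) x))).mpr hxO
  · obtain ⟨hclm, hkerm⟩ := H29Slice.restrict_baseChange
      (IsPullback.of_hasPullback j₀ (pullback.fst g₀ (D.map m.hom))) hW₀ hcl₀ hOm (e := hWm)
    refine ⟨⟨_, hOm⟩, ⟨_, hV₂.preimage _⟩, em, hy, hclm, _, hTRm, ?_⟩
    rw [hkerm]
    have e3 := congrArg (Ideal.map ((P.map Θ).appLE (P.map χ₂ ⁻¹ᵁ O) (P.map Θ ⁻¹ᵁ (P.map χ₂ ⁻¹ᵁ O)) le_rfl).hom) hK₂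
    rw [Ideal.map_ofList, Ideal.map_map, ← CommRingCat.hom_comp] at e3
    exact (congrArg (fun r => Ideal.map (CommRingCat.Hom.hom r) (RingHom.ker (j₀.app W₀).hom))
      (appLE_of_comp (hmapfst Θ) (hW χ₂) _ hWm)).symm.trans e3

end Groth.Agent.H7Lim.TransReg
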