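import Groth.Agent.H7Lim.TransReg.Ring
import Groth.Agent.H7Lim.Sections

/-!
# Weakly regular sections over a flat cofiltered limit
-/

set_option autoImplicit false
set_option linter.style.haveILetI false

universe u

open CategoryTheory CategoryTheory.Limits AlgebraicGeometry RingTheory.Sequence

namespace Groth.Agent.H7Lim.WReg

/-- Weak regularity can be checked in the local rings. -/
theorem isWeaklyRegular_of_local {B : Type u} [CommRing B] (rs : List B)
    (h : ∀ (P : Ideal B) [P.IsMaximal], ∃ (L : Type u) (_ : CommRing L) (_ : Algebra B L)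
      (_ : IsLocalization.AtPrime L P), IsWeaklyRegular L (rs.map (algebraMap B L))) :
    IsWeaklyRegular B rs := by
  rw [H29Slice.isWeaklyRegular_iff_elementwise]
  intro i hi x hx
  by_contra hxJ
  let I := (Ideal.ofList (rs.take i)).colon ({x} : Set B)
  obtain ⟨P, hP, hle⟩ := Ideal.exists_le_maximal I fun htop => hxJ (by
    simpa [I, Submodule.mem_colon_singleton] using (htop ▸ Submodule.mem_top : (1 : B) ∈ I))
  obtain ⟨L, _, _, _, hL⟩ := @h P hP
  have h' := (H29Slice.isWeaklyRegular_iff_elementwise _).1 hL i (by simpa using hi)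
    (algebraMap B L x) (by
      rw [List.getElem_map, ← map_mul, ← List.map_take, ← Ideal.map_ofList]
      exact Ideal.mem_map_of_mem _ hx)
  rw [← List.map_take, ← Ideal.map_ofList,
    IsLocalization.algebraMap_mem_map_algebraMap_iff P.primeCompl] at h'
  obtain ⟨t, ht, htx⟩ := h'
  exact ht (hle (Submodule.mem_colon_singleton.2 htx))

/-- Over a Noetherian ring, weak regularity at a prime spreads to a neighbourhood. -/
theorem exists_notMem_of_atPrime {B : Type u} [CommRing B] [IsNoetherianRing B] (rs : List B) (q : Ideal B)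
    [q.IsPrime] (L : Type u) [CommRing L] [Algebra B L] [IsLocalization.AtPrime L q]
    (h : IsWeaklyRegular L (rs.map (algebraMap B L))) :
    ∃ b ∉ q, ∀ (i : ℕ) (hi : i < rs.length) (x : B),
      rs[i] * x ∈ Ideal.ofList (rs.take i) → b * x ∈ Ideal.ofList (rs.take i) := by
  classical
  have h1 : ∀ i : Fin rs.length, ∀ x ∈ (Ideal.ofList (rs.take i)).colon ({rs[(i : ℕ)]} : Set B),
      ∃ t ∉ q, t * x ∈ Ideal.ofList (rs.take i) := by
    intro i x hx
    rw [Submodule.mem_colon_singleton, smul_eq_mul, mul_comm] at hx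
    have h' := (H29Slice.isWeaklyRegular_iff_elementwise _).1 h i (by simp)
      (algebraMap B L x) (by
        rw [List.getElem_map, ← map_mul, ← List.map_take, ← Ideal.map_ofList]
        exact Ideal.mem_map_of_mem _ hx)
    rw [← List.map_take, ← Ideal.map_ofList,
      IsLocalization.algebraMap_mem_map_algebraMap_iff q.primeCompl] at h'
    obtain ⟨t, ht, htx⟩ := h'
    exact ⟨t, ht, htx⟩
  have h2 : ∀ i : Fin rs.length, ∃ t ∉ q, ∀ x ∈ (Ideal.ofList (rs.take i)).colon ({rs[(i : ℕ)]} : Set B),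
      t * x ∈ Ideal.ofList (rs.take i) := by
    intro i
    obtain ⟨s, hs⟩ := IsNoetherian.noetherian ((Ideal.ofList (rs.take i)).colon ({rs[(i : ℕ)]} : Set B))
    choose t htq ht using fun x : s => h1 i x.1 (hs.le (Submodule.subset_span x.2))
    refine ⟨∏ x, t x, q.primeCompl.prod_mem fun x _ => htq x, fun x hx => ?_⟩
    rw [← hs] at hx
    induction hx using Submodule.span_induction with
    | mem y hy =>
      rw [← Finset.prod_erase_mul _ _ (Finset.mem_univ (⟨y, hy⟩ : s)), mul_assoc]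
      exact Ideal.mul_mem_left _ _ (ht _)
    | zero => simp
    | add y z _ _ hy hz => rw [mul_add]; exact add_mem hy hz
    | smul a y _ hy => rw [smul_eq_mul, mul_left_comm]; exact Ideal.mul_mem_left _ _ hy
  choose t htq ht using h2
  refine ⟨∏ i, t i, q.primeCompl.prod_mem fun i _ => htq i, fun i hi x hx => ?_⟩
  rw [← Finset.prod_erase_mul _ _ (Finset.mem_univ (⟨i, hi⟩ : Fin rs.length)), mul_assoc]
  refine Ideal.mul_mem_left _ _ (ht ⟨i, hi⟩ x ?_)
  rw [Submodule.mem_colon_singleton, smul_eq_mul, mul_comm]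
  exact hx

variable {X Y : Scheme.{u}}

/-- The germs of the sections form a weakly regular sequence. -/
def WRAt (fs : List Γ(X, ⊤)) (x : X) : Prop :=
  IsWeaklyRegular (X.presheaf.stalk x) (fs.map fun f => X.presheaf.germ ⊤ x trivial f)

/-- The sections form a weakly regular sequence on an open. -/
def WROn (fs : List Γ(X, ⊤)) (U : X.Opens) : Prop :=
  IsWeaklyRegular Γ(X, U) (fs.map fun f => (X.presheaf.map (homOfLE (le_top : U ≤ ⊤)).op).hom f)

theorem map_germ (fs : List Γ(X, ⊤)) {U : X.Opens} (x : X) (hx : x ∈ U) :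
    (fs.map fun f => (X.presheaf.map (homOfLE (le_top : U ≤ ⊤)).op).hom f).map (X.presheaf.germ U x hx).hom =
      fs.map fun f => X.presheaf.germ ⊤ x trivial f := by
  rw [List.map_map]
  exact List.map_congr_left fun f _ => TopCat.Presheaf.germ_res_apply X.presheaf (homOfLE le_top) x hx f

theorem forall_wrOn_iff (fs : List Γ(X, ⊤)) : (∀ U : X.affineOpens, WROn fs U.1) ↔ ∀ x, WRAt fs x := by
  constructor
  · intro h x
    obtain ⟨U, hU, hxU, -⟩ := exists_isAffineOpen_mem_and_subset (x := x) (U := (⊤ : X.Opens)) trivial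
    letI : Algebra Γ(X, U) (X.presheaf.stalk x) := (X.presheaf.germ U x hxU).hom.toAlgebra
    haveI : IsLocalization.AtPrime (X.presheaf.stalk x) (hU.primeIdealOf ⟨x, hxU⟩).asIdeal :=
      hU.isLocalization_stalk ⟨x, hxU⟩
    exact Eq.mp (congrArg (IsWeaklyRegular (X.presheaf.stalk x)) (map_germ fs x hxU))
      ((h ⟨U, hU⟩).of_isLocalization (X.presheaf.stalk x) (hU.primeIdealOf ⟨x, hxU⟩).asIdeal.primeCompl)
  · intro h U
    refine isWeaklyRegular_of_local _ fun P _ => ?_
    have hpt : U.2.fromSpec ⟨P, inferInstance⟩ ∈ U.1 := by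
      rw [← SetLike.mem_coe, ← U.2.range_fromSpec]; exact ⟨_, rfl⟩
    refine ⟨X.presheaf.stalk (U.2.fromSpec ⟨P, inferInstance⟩), inferInstance,
      (X.presheaf.germ U.1 _ hpt).hom.toAlgebra, U.2.isLocalization_stalk' ⟨P, inferInstance⟩ hpt, ?_⟩
    exact Eq.mp (congrArg (IsWeaklyRegular (X.presheaf.stalk _)) (map_germ fs _ hpt).symm) (h _)

theorem isOpen_wrAt [IsLocallyNoetherian X] (fs : List Γ(X, ⊤)) : IsOpen {x : X | WRAt fs x} := by
  rw [isOpen_iff_forall_mem_open]
  intro x hx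
  obtain ⟨U, hU, hxU, -⟩ := exists_isAffineOpen_mem_and_subset (x := x) (U := (⊤ : X.Opens)) trivial
  haveI : IsNoetherianRing Γ(X, U) := IsLocallyNoetherian.component_noetherian ⟨U, hU⟩
  letI : Algebra Γ(X, U) (X.presheaf.stalk x) := (X.presheaf.germ U x hxU).hom.toAlgebra
  haveI : IsLocalization.AtPrime (X.presheaf.stalk x) (hU.primeIdealOf ⟨x, hxU⟩).asIdeal :=
    hU.isLocalization_stalk ⟨x, hxU⟩
  obtain ⟨b, hb, hbx⟩ := exists_notMem_of_atPrime
    (fs.map fun f => (X.presheaf.map (homOfLE (le_top : U ≤ ⊤)).op).hom f)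
    (hU.primeIdealOf ⟨x, hxU⟩).asIdeal (X.presheaf.stalk x)
    (Eq.mp (congrArg (IsWeaklyRegular (X.presheaf.stalk x)) (map_germ fs x hxU).symm) hx)
  refine ⟨X.basicOpen b, fun y hy => ?_, (X.basicOpen b).2, (Scheme.mem_basicOpen X b x hxU).mpr
    (IsLocalization.map_units (X.presheaf.stalk x) (⟨b, hb⟩ : (hU.primeIdealOf ⟨x, hxU⟩).asIdeal.primeCompl))⟩
  have hyU : y ∈ U := X.basicOpen_le b hy
  letI : Algebra Γ(X, U) (X.presheaf.stalk y) := (X.presheaf.germ U y hyU).hom.toAlgebra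
  haveI : IsLocalization.AtPrime (X.presheaf.stalk y) (hU.primeIdealOf ⟨y, hyU⟩).asIdeal :=
    hU.isLocalization_stalk ⟨y, hyU⟩
  have hu : IsUnit (algebraMap Γ(X, U) (X.presheaf.stalk y) b) := (Scheme.mem_basicOpen X b y hyU).mp hy
  show IsWeaklyRegular (X.presheaf.stalk y) _
  rw [← map_germ fs y hyU, H29Slice.isWeaklyRegular_iff_elementwise]
  intro i hi z hz
  rw [List.getElem_map, ← List.map_take, ← Ideal.map_ofList] at hz
  rw [← List.map_take, ← Ideal.map_ofList]
  obtain ⟨⟨a, s⟩, hzs⟩ := IsLocalization.surj (hU.primeIdealOf ⟨y, hyU⟩).asIdeal.primeCompl z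
  have h1 := Ideal.mul_mem_right (algebraMap Γ(X, U) (X.presheaf.stalk y) s.1) _ hz
  rw [mul_assoc, hzs] at h1
  erw [← map_mul, IsLocalization.algebraMap_mem_map_algebraMap_iff (hU.primeIdealOf ⟨y, hyU⟩).asIdeal.primeCompl] at h1
  obtain ⟨t, ht, hta⟩ := h1
  rw [mul_left_comm] at hta
  have h2 := Ideal.mem_map_of_mem (algebraMap Γ(X, U) (X.presheaf.stalk y))
    (hbx i (by simpa using hi) (t * a) hta)
  rw [map_mul, map_mul, ← hzs] at h2
  have hut : IsUnit (algebraMap Γ(X, U) (X.presheaf.stalk y) t) :=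
    IsLocalization.map_units (X.presheaf.stalk y) (⟨t, ht⟩ : (hU.primeIdealOf ⟨y, hyU⟩).asIdeal.primeCompl)
  have hus : IsUnit (algebraMap Γ(X, U) (X.presheaf.stalk y) s.1) := IsLocalization.map_units _ s
  rw [← mul_assoc, ← mul_assoc] at h2
  exact (Ideal.unit_mul_mem_iff_mem _ (hu.mul hut)).1
    (by rwa [mul_assoc _ z, mul_comm z, ← mul_assoc, mul_comm _ (algebraMap _ _ s.1), mul_assoc,
      Ideal.unit_mul_mem_iff_mem _ hus] at h2)

theorem wrAt_iff_of_flat (g : X ⟶ Y) [Flat g] (fs : List Γ(Y, ⊤)) (x : X) :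
    WRAt (fs.map g.appTop.hom) x ↔ WRAt fs (g x) := by
  letI := (g.stalkMap x).hom.toAlgebra
  haveI : Module.Flat (Y.presheaf.stalk (g x)) (X.presheaf.stalk x) :=
    RingHom.flat_algebraMap_iff.1 (Flat.stalkMap g x)
  haveI : IsLocalHom (algebraMap (Y.presheaf.stalk (g x)) (X.presheaf.stalk x)) :=
    inferInstanceAs (IsLocalHom (g.stalkMap x).hom)
  haveI : Module.FaithfullyFlat (Y.presheaf.stalk (g x)) (X.presheaf.stalk x) :=
    Module.FaithfullyFlat.of_flat_of_isLocalHom
  have hlist : (fs.map g.appTop.hom).map (fun f => X.presheaf.germ ⊤ x trivial f) =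
      (fs.map fun f => Y.presheaf.germ ⊤ (g x) trivial f).map
        (algebraMap (Y.presheaf.stalk (g x)) (X.presheaf.stalk x)) := by
    rw [List.map_map, List.map_map]
    exact List.map_congr_left fun f _ => (Scheme.Hom.germ_stalkMap_apply g ⊤ x trivial f).symm
  rw [WRAt, WRAt, hlist]
  exact ⟨TransReg.isWeaklyRegular_of_comap_map _ _ fun I => Ideal.comap_map_eq_self_of_faithfullyFlat I,
    fun h => h.of_flat⟩

variable {I : Type u} [SmallCategory I] [IsCofiltered I] {D : I ⥤ Scheme.{u}} {c : Cone D}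
  [∀ (i j : I) (f : i ⟶ j), IsAffineHom (D.map f)]

theorem wrAt_limit_iff (hc : IsLimit c) (hflat : ∀ (i j : I) (f : i ⟶ j), Flat (D.map f))
    (hcase : (∀ i : I, IsLocallyNoetherian (D.obj i)) ∨ ∀ (i j : I) (f : i ⟶ j), Surjective (D.map f))
    (i : I) [CompactSpace (D.obj i)] (fs : List Γ(D.obj i, ⊤)) :
    (∀ x, WRAt (fs.map (c.π.app i).appTop.hom) x) ↔
      ∃ (j : I) (φ : j ⟶ i), ∀ x, WRAt (fs.map (D.map φ).appTop.hom) x := by
  haveI : Flat (c.π.app i) := flat_π_app hc i fun j φ => hflat j i φ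
  constructor
  · intro h
    have hgood : Set.range (c.π.app i) ⊆ {y | WRAt fs y} := by
      rintro _ ⟨x, rfl⟩
      exact (wrAt_iff_of_flat (c.π.app i) fs x).1 (h x)
    obtain hN | hs := hcase
    · haveI := hN i
      obtain ⟨j, φ, hj⟩ := ((qcImage_range (𝟙 (D.obj i))).inter_isClosed
        (isOpen_wrAt fs).isClosed_compl).exists_preimage_eq_empty hc
        (Set.eq_empty_iff_forall_notMem.2 fun x hx => hx.2 (hgood ⟨x, rfl⟩))
      haveI := hflat j i φ
      refine ⟨j, φ, fun x => (wrAt_iff_of_flat (D.map φ) fs x).2 (not_not.1 fun hx => ?_)⟩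
      exact (Set.eq_empty_iff_forall_notMem.1 hj x) ⟨⟨D.map φ x, rfl⟩, hx⟩
    · refine ⟨i, 𝟙 i, fun x => ?_⟩
      haveI := hflat i i (𝟙 i)
      refine (wrAt_iff_of_flat (D.map (𝟙 i)) fs x).2 (hgood ?_)
      rw [range_π_eq_iInter hc i]
      exact Set.mem_iInter₂.2 fun j φ => (hs j i φ).surj _
  · rintro ⟨j, φ, h⟩ x
    haveI := hflat j i φ
    haveI : Flat (c.π.app j) := flat_π_app hc j fun k ψ => hflat k j ψ
    refine (wrAt_iff_of_flat (c.π.app i) fs x).2 ?_
    have := (wrAt_iff_of_flat (D.map φ) fs (c.π.app j x)).1 (h _)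
    rwa [← Scheme.Hom.comp_apply, c.w φ] at this

end Groth.Agent.H7Lim.WReg
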