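import Groth.Agent.H7Lim.TransReg.Global
import Groth.Agent.H7Lim.TransReg.WeaklyRegular

/-!
# Regular immersions descend along a flat cofiltered limit
-/

set_option autoImplicit false
set_option linter.style.haveILetI false
set_option maxHeartbeats 1000000
set_option backward.isDefEq.respectTransparency false
set_option backward.defeqAttrib.useBackward true

universe u

open CategoryTheory CategoryTheory.Limits AlgebraicGeometry TopologicalSpace RingTheory.Sequence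

namespace Groth.Agent.H7Lim.WReg

variable {X Y : Scheme.{u}}

/-- A weakly regular sequence of sections has weakly regular germs. -/
theorem germs_of_sec {U : X.Opens} (hU : IsAffineOpen U) (ls : List Γ(X, U)) (h : IsWeaklyRegular Γ(X, U) ls)
    (x : X) (hx : x ∈ U) : IsWeaklyRegular (X.presheaf.stalk x) (ls.map (X.presheaf.germ U x hx).hom) := by
  letI : Algebra Γ(X, U) (X.presheaf.stalk x) := (X.presheaf.germ U x hx).hom.toAlgebra
  haveI : IsLocalization.AtPrime (X.presheaf.stalk x) (hU.primeIdealOf ⟨x, hx⟩).asIdeal :=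
    hU.isLocalization_stalk ⟨x, hx⟩
  exact h.of_isLocalization (X.presheaf.stalk x) (hU.primeIdealOf ⟨x, hx⟩).asIdeal.primeCompl

theorem sec_of_germs {U : X.Opens} (hU : IsAffineOpen U) (ls : List Γ(X, U))
    (h : ∀ (x : X) (hx : x ∈ U), IsWeaklyRegular (X.presheaf.stalk x) (ls.map (X.presheaf.germ U x hx).hom)) :
    IsWeaklyRegular Γ(X, U) ls := by
  refine isWeaklyRegular_of_local _ fun P _ => ?_
  have hpt : hU.fromSpec ⟨P, inferInstance⟩ ∈ U := by
    rw [← SetLike.mem_coe, ← hU.range_fromSpec]; exact ⟨_, rfl⟩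
  exact ⟨X.presheaf.stalk (hU.fromSpec ⟨P, inferInstance⟩), inferInstance,
    (X.presheaf.germ U _ hpt).hom.toAlgebra, hU.isLocalization_stalk' ⟨P, inferInstance⟩ hpt, h _ hpt⟩

theorem germs_iff_of_flat (g : X ⟶ Y) [Flat g] {U : Y.Opens} {W : X.Opens} (e : W ≤ g ⁻¹ᵁ U) (ls : List Γ(Y, U))
    (x : X) (hx : x ∈ W) :
    IsWeaklyRegular (X.presheaf.stalk x) ((ls.map (g.appLE U W e).hom).map (X.presheaf.germ W x hx).hom) ↔
      IsWeaklyRegular (Y.presheaf.stalk (g x)) (ls.map (Y.presheaf.germ U (g x) (e hx)).hom) := by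
  letI := (g.stalkMap x).hom.toAlgebra
  haveI : Module.Flat (Y.presheaf.stalk (g x)) (X.presheaf.stalk x) :=
    RingHom.flat_algebraMap_iff.1 (Flat.stalkMap g x)
  haveI : IsLocalHom (algebraMap (Y.presheaf.stalk (g x)) (X.presheaf.stalk x)) :=
    inferInstanceAs (IsLocalHom (g.stalkMap x).hom)
  haveI : Module.FaithfullyFlat (Y.presheaf.stalk (g x)) (X.presheaf.stalk x) :=
    Module.FaithfullyFlat.of_flat_of_isLocalHom
  have hlist : (ls.map (g.appLE U W e).hom).map (X.presheaf.germ W x hx).hom =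
      (ls.map (Y.presheaf.germ U (g x) (e hx)).hom).map
        (algebraMap (Y.presheaf.stalk (g x)) (X.presheaf.stalk x)) := by
    rw [List.map_map, List.map_map]
    exact List.map_congr_left fun f _ => TransReg.germ_appLE g e x hx f
  rw [hlist]
  exact ⟨TransReg.isWeaklyRegular_of_comap_map _ _ fun I => Ideal.comap_map_eq_self_of_faithfullyFlat I,
    fun h => h.of_flat⟩

theorem isOpen_germs [IsLocallyNoetherian X] {U : X.Opens} (hU : IsAffineOpen U) (ls : List Γ(X, U)) :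
    IsOpen {x : X | ∃ hx : x ∈ U, IsWeaklyRegular (X.presheaf.stalk x) (ls.map (X.presheaf.germ U x hx).hom)} := by
  rw [isOpen_iff_forall_mem_open]
  rintro x ⟨hxU, hx⟩
  haveI : IsNoetherianRing Γ(X, U) := IsLocallyNoetherian.component_noetherian ⟨U, hU⟩
  letI : Algebra Γ(X, U) (X.presheaf.stalk x) := (X.presheaf.germ U x hxU).hom.toAlgebra
  haveI : IsLocalization.AtPrime (X.presheaf.stalk x) (hU.primeIdealOf ⟨x, hxU⟩).asIdeal :=
    hU.isLocalization_stalk ⟨x, hxU⟩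
  obtain ⟨b, hb, hbx⟩ := exists_notMem_of_atPrime ls (hU.primeIdealOf ⟨x, hxU⟩).asIdeal (X.presheaf.stalk x) hx
  refine ⟨X.basicOpen b, fun y hy => ?_, (X.basicOpen b).2, (Scheme.mem_basicOpen X b x hxU).mpr
    (IsLocalization.map_units (X.presheaf.stalk x) (⟨b, hb⟩ : (hU.primeIdealOf ⟨x, hxU⟩).asIdeal.primeCompl))⟩
  have hyU : y ∈ U := X.basicOpen_le b hy
  refine ⟨hyU, ?_⟩
  have hW : IsAffineOpen (X.basicOpen b) := hU.basicOpen b
  let ψ := (X.presheaf.map (homOfLE (X.basicOpen_le b)).op).hom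
  letI : Algebra Γ(X, U) Γ(X, X.basicOpen b) := ψ.toAlgebra
  haveI : IsLocalization.Away b Γ(X, X.basicOpen b) := hU.isLocalization_basicOpen b
  have h1 : IsWeaklyRegular Γ(X, X.basicOpen b) (ls.map ψ) := by
    rw [H29Slice.isWeaklyRegular_iff_elementwise]
    intro i hi z hz
    rw [List.getElem_map, ← List.map_take, ← Ideal.map_ofList] at hz
    rw [← List.map_take, ← Ideal.map_ofList]
    obtain ⟨n, a, ha⟩ := IsLocalization.Away.surj b z
    have h1 := Ideal.mul_mem_right (algebraMap Γ(X, U) Γ(X, X.basicOpen b) b ^ n) _ hz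
    rw [mul_assoc, ha] at h1
    erw [← map_mul, IsLocalization.algebraMap_mem_map_algebraMap_iff (Submonoid.powers b)] at h1
    obtain ⟨_, ⟨k, rfl⟩, hka⟩ := h1
    rw [mul_left_comm] at hka
    have h2 := Ideal.mem_map_of_mem (algebraMap Γ(X, U) Γ(X, X.basicOpen b)) (hbx i (by simpa using hi) _ hka)
    rw [map_mul, map_mul, ← ha, map_pow] at h2
    have hu : IsUnit (algebraMap Γ(X, U) Γ(X, X.basicOpen b) b) := IsLocalization.Away.algebraMap_isUnit b
    rw [Ideal.unit_mul_mem_iff_mem _ hu, Ideal.unit_mul_mem_iff_mem _ (hu.pow k),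
      Ideal.mul_unit_mem_iff_mem _ (hu.pow n)] at h2
    exact h2
  refine Eq.mp (congrArg (IsWeaklyRegular (X.presheaf.stalk y)) ?_) (germs_of_sec hW _ h1 y hy)
  rw [List.map_map]
  exact List.map_congr_left fun f _ => TopCat.Presheaf.germ_res_apply X.presheaf (homOfLE (X.basicOpen_le b)) y hy f

/-- Regularity of an immersion at a point is preserved by flat affine base change. -/
theorem regImmAt_baseChange {Z Z' : Scheme.{u}} {i : Z ⟶ Y} {i' : Z' ⟶ X} {g : X ⟶ Y} {h : Z' ⟶ Z}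
    (H : IsPullback h i' i g) [Flat g] [IsAffineHom g] (z' : Z')
    (hz : RegImm.IsRegularImmersionAt RegImm.Kind.regular i (h z')) :
    RegImm.IsRegularImmersionAt RegImm.Kind.regular i' z' := by
  obtain ⟨U, hzU, hcl, rs, hrs, hker⟩ := hz
  have hW : IsAffineOpen (g ⁻¹ᵁ U.1) := U.2.preimage g
  obtain ⟨hcl', hker'⟩ := H29Slice.restrict_baseChange H U.2 hcl hW (e := le_rfl)
  rw [hker, Ideal.map_ofList] at hker'
  have hzW : i' z' ∈ g ⁻¹ᵁ U.1 := by
    show g (i' z') ∈ U.1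
    rw [← Scheme.Hom.comp_apply, ← H.w]
    exact hzU
  refine ⟨⟨_, hW⟩, hzW, hcl', _, H29Slice.isRegular_of_mem i' z' hzW ?_ hker', hker'⟩
  letI := (g.appLE U.1 (g ⁻¹ᵁ U.1) le_rfl).hom.toAlgebra
  haveI : Module.Flat Γ(Y, U.1) Γ(X, g ⁻¹ᵁ U.1) :=
    RingHom.flat_algebraMap_iff.1 (HasRingHomProperty.appLE (P := @Flat) g inferInstance U ⟨_, hW⟩ le_rfl)
  exact (hrs : RingTheory.Sequence.IsRegular Γ(Y, U.1) rs).toIsWeaklyRegular.of_flat

/-- The kernel on a smaller affine open. -/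
theorem ker_res {Z : Scheme.{u}} (ι : Z ⟶ X) {U U' : X.Opens} (hU : IsAffineOpen U) (hU' : IsAffineOpen U')
    (h : U' ≤ U) (hcl : IsClosedImmersion (ι ∣_ U)) (rs : List Γ(X, U))
    (hker : RingHom.ker (ι.app U).hom = Ideal.ofList rs) :
    RingHom.ker (ι.app U').hom = Ideal.ofList (rs.map fun f => X.presheaf.map (homOfLE h).op f) := by
  obtain ⟨-, hk⟩ := H29Slice.restrict_baseChange
    (show IsPullback (𝟙 _) ι ι (𝟙 _) from IsPullback.of_horiz_isIso ⟨by simp⟩) hU hcl hU' (e := h)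
  rw [hker, Ideal.map_ofList] at hk
  rw [hk]
  exact congrArg Ideal.ofList (List.map_congr_left fun f _ => by simp [Scheme.Hom.appLE])

variable {I : Type u} [SmallCategory I] [IsCofiltered I] {D : I ⥤ Scheme.{u}} {c : Cone D}
  [∀ (i j : I) (f : i ⟶ j), IsAffineHom (D.map f)]

open TransReg

/-- A regular point of the base changed immersion is regular at a stage. -/
theorem exists_regImmAt_stage (hc : IsLimit c) (hflat : ∀ (i j : I) (f : i ⟶ j), Flat (D.map f))
    (i : I) {Y₀ : Scheme.{u}} (j₀ : Y₀ ⟶ D.obj i) [IsImmersion j₀]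
    (hcase : (∀ i : I, IsLocallyNoetherian (D.obj i)) ∨
      ((∀ (i j : I) (f : i ⟶ j), Surjective (D.map f)) ∧ LocallyOfFinitePresentation j₀))
    (z : ↥(pullback j₀ (c.π.app i)))
    (h : RegImm.IsRegularImmersionAt RegImm.Kind.regular (pullback.snd j₀ (c.π.app i)) z) :
    ∃ (m : Over i) (O : (D.obj m.left).Opens),
      c.π.app m.left (pullback.snd j₀ (c.π.app i) z) ∈ O ∧
      ∀ y, pullback.snd j₀ (D.map m.hom) y ∈ O →
        RegImm.IsRegularImmersionAt RegImm.Kind.regular (pullback.snd j₀ (D.map m.hom)) y := by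
  haveI := isAffineHom_π_app D c hc i
  let P : Over i ⥤ Scheme.{u} := Over.forget i ⋙ D
  let cP : Cone P := c.whisker (Over.forget i)
  have hP : IsLimit cP := (Functor.Initial.isLimitWhiskerEquiv (Over.forget i) c).symm hc
  haveI hPaff : ∀ (a b : Over i) (f : a ⟶ b), IsAffineHom (P.map f) := fun a b f =>
    inferInstanceAs (IsAffineHom (D.map f.left))
  have hmap : ∀ {m m' : Over i} (χ : m ⟶ m'), P.map χ ≫ D.map m'.hom = D.map m.hom := fun χ => by
    rw [← Over.w χ, D.map_comp]; rfl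
  have hπ : ∀ m : Over i, cP.π.app m ≫ D.map m.hom = c.π.app i := fun m => c.w m.hom
  let ι : pullback j₀ (c.π.app i) ⟶ c.pt := pullback.snd j₀ (c.π.app i)
  change RegImm.IsRegularImmersionAt RegImm.Kind.regular ι z at h
  let x : c.pt := ι z
  obtain ⟨U, hzU, hcl, rs, hrs, hker⟩ := h
  -- a chart of `j₀`
  have hxcob : c.π.app i x ∈ j₀.coborderRange := by
    show c.π.app i (pullback.snd j₀ (c.π.app i) z) ∈ _
    rw [← Scheme.Hom.comp_apply, ← pullback.condition, Scheme.Hom.comp_apply]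
    exact subset_coborder ⟨_, rfl⟩
  obtain ⟨W₀, hW₀, hxW₀, hW₀le⟩ := exists_isAffineOpen_mem_and_subset (x := c.π.app i x)
    (U := j₀.coborderRange) hxcob
  have hcl₀ : IsClosedImmersion (j₀ ∣_ W₀) :=
    H11QMap.isClosedImmersion_restrict_of_le_coborderRange j₀ hW₀le
  obtain ⟨hpre, hsurj⟩ := H29Slice.preimage_affine_and_surjective j₀ hW₀ hcl₀
  have hI₀ : (RingHom.ker (j₀.app W₀).hom).FG := by
    obtain hN | ⟨-, hfp⟩ := hcase
    · haveI := hN i
      haveI : IsNoetherianRing Γ(D.obj i, W₀) := IsLocallyNoetherian.component_noetherian ⟨W₀, hW₀⟩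
      exact IsNoetherian.noetherian _
    · letI := (j₀.app W₀).hom.toAlgebra
      haveI : Algebra.FinitePresentation Γ(D.obj i, W₀) Γ(Y₀, j₀ ⁻¹ᵁ W₀) := by
        have := LocallyOfFinitePresentation.finitePresentation_appLE j₀ hW₀ hpre le_rfl
        rw [← Scheme.Hom.app_eq_appLE] at this
        exact this
      exact Algebra.FinitePresentation.ker_fG_of_surjective (Algebra.ofId Γ(D.obj i, W₀) Γ(Y₀, j₀ ⁻¹ᵁ W₀)) hsurj
  -- an affine open at a stage whose preimage lies in `U`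
  obtain ⟨U₁, hU₁, hxU₁, hU₁le⟩ := exists_isAffineOpen_mem_and_subset (x := x)
    (U := U.1 ⊓ c.π.app i ⁻¹ᵁ W₀) ⟨hzU, hxW₀⟩
  obtain ⟨k, -, O₁, hO₁, -, hO₁U⟩ := exists_isCompact_isOpen_preimage_eq hP (Over.mk (𝟙 i))
    U₁.2 hU₁.isCompact
  have hxO₁ : cP.π.app k x ∈ O₁ := (Set.ext_iff.1 hO₁U x).2 hxU₁
  obtain ⟨O, hO, hxO, hOle⟩ := exists_isAffineOpen_mem_and_subset (x := cP.π.app k x)
    (U := (⟨O₁, hO₁⟩ : (P.obj k).Opens) ⊓ D.map k.hom ⁻¹ᵁ W₀)
    ⟨hxO₁, (congrArg (· ∈ W₀) (apply_of_comp (hπ k) x)).mpr hxW₀⟩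
  haveI := isAffineHom_π_app P cP hP k
  let U₂ : c.pt.Opens := cP.π.app k ⁻¹ᵁ O
  have hU₂ : IsAffineOpen U₂ := hO.preimage _
  have hU₂U : U₂ ≤ U.1 := fun p hp => (hU₁le ((Set.ext_iff.1 hO₁U p).1 (hOle hp).1)).1
  let res : Γ(c.pt, U.1) → Γ(c.pt, U₂) := fun f => c.pt.presheaf.map (homOfLE hU₂U).op f
  have hker₂ : RingHom.ker (ι.app U₂).hom = Ideal.ofList (rs.map res) :=
    ker_res ι U.2 hU₂ hU₂U hcl rs hker
  have hrs₂ : IsWeaklyRegular Γ(c.pt, U₂) (rs.map res) := by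
    refine sec_of_germs hU₂ _ fun p hp => ?_
    refine Eq.mp (congrArg (IsWeaklyRegular (c.pt.presheaf.stalk p)) ?_)
      (germs_of_sec (X := c.pt) U.2 rs (hrs : RingTheory.Sequence.IsRegular Γ(c.pt, U.1) rs).toIsWeaklyRegular p (hU₂U hp))
    rw [List.map_map]
    exact (List.map_congr_left fun f _ =>
      TopCat.Presheaf.germ_res_apply c.pt.presheaf (homOfLE hU₂U) p hp f).symm
  obtain ⟨l, φ, t, ht⟩ := exists_secπ_eq_finite hP hO (fun a : Fin rs.length => res rs[(a : ℕ)])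
  have hlist : (List.ofFn fun a => secπ (c := cP) φ O (t a)) = rs.map res := by
    rw [show (fun a => secπ (c := cP) φ O (t a)) = fun a : Fin rs.length => res rs[(a : ℕ)] from funext ht]
    exact List.ofFn_getElem_eq_map rs res
  -- the kernel at the stages
  have hW : ∀ {m : Over i} (χ : m ⟶ k), P.map χ ⁻¹ᵁ O ≤ D.map m.hom ⁻¹ᵁ W₀ :=
    fun χ p hp => (congrArg (· ∈ W₀) (apply_of_comp (hmap χ) p)).mp (hOle hp).2
  have hWlim : U₂ ≤ c.π.app i ⁻¹ᵁ W₀ := fun p hp =>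
    (congrArg (· ∈ W₀) (apply_of_comp (hπ k) p)).mp (hOle hp).2
  obtain ⟨-, hkerlim⟩ := H29Slice.restrict_baseChange
    (IsPullback.of_hasPullback j₀ (c.π.app i)) hW₀ hcl₀ hU₂ (e := hWlim)
  let K : Ideal Γ(P.obj l, P.map φ ⁻¹ᵁ O) := (RingHom.ker (j₀.app W₀).hom).map
    ((D.map l.hom).appLE W₀ (P.map φ ⁻¹ᵁ O) (hW φ)).hom
  obtain ⟨l₂, ψ₂, hl₂⟩ := exists_ideal_eq_stage hP φ hO t K (Ideal.FG.map hI₀ _) (by
    rw [Ideal.map_map, ← CommRingCat.hom_comp]
    refine (congrArg (fun r => Ideal.map (CommRingCat.Hom.hom r) (RingHom.ker (j₀.app W₀).hom))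
      (appLE_of_comp (hπ l) (hW φ) _ hWlim)).trans ?_
    rw [← ofList_ofFn_eq_span, hlist]
    exact hkerlim.symm.trans hker₂)
  let χ₂ : l₂ ⟶ k := ψ₂ ≫ φ
  let O₂ : (D.obj l₂.left).Opens := P.map χ₂ ⁻¹ᵁ O
  let L₂ : List Γ(D.obj l₂.left, O₂) := List.ofFn fun a => secMap φ ψ₂ O (t a)
  have hO₂ : IsAffineOpen O₂ := hO.preimage _
  have hK₂ : (RingHom.ker (j₀.app W₀).hom).map
      ((D.map l₂.hom).appLE W₀ O₂ (hW χ₂)).hom = Ideal.ofList L₂ := by
    refine Eq.trans ?_ (hl₂.trans (ofList_ofFn_eq_span _).symm)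
    rw [Ideal.map_map, ← CommRingCat.hom_comp]
    exact (congrArg (fun r => Ideal.map (CommRingCat.Hom.hom r) (RingHom.ker (j₀.app W₀).hom))
      (appLE_of_comp (hmap ψ₂) (hW φ) _ (hW χ₂))).symm
  -- weak regularity at the image of the limit
  haveI : Flat (c.π.app l₂.left) := flat_π_app hc _ fun j θ => hflat j _ θ
  have hπ₂ : U₂ ≤ c.π.app l₂.left ⁻¹ᵁ O₂ := fun p hp =>
    (congrArg (· ∈ O) (apply_of_comp (cP.w χ₂) p)).mpr hp
  have hgood : ∀ (p : c.pt) (hp : c.π.app l₂.left p ∈ O₂),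
      IsWeaklyRegular ((D.obj l₂.left).presheaf.stalk (c.π.app l₂.left p))
        (L₂.map ((D.obj l₂.left).presheaf.germ O₂ _ hp).hom) := by
    intro p hp
    have hpU₂ : p ∈ U₂ := (congrArg (· ∈ O) (apply_of_comp (cP.w χ₂) p)).mp hp
    refine (germs_iff_of_flat (X := c.pt) (c.π.app l₂.left) hπ₂ L₂ p hpU₂).1
      (Eq.mp (congrArg (IsWeaklyRegular (c.pt.presheaf.stalk p)) ?_) (germs_of_sec hU₂ _ hrs₂ p hpU₂))
    rw [← hlist, List.map_ofFn, List.map_ofFn, List.map_ofFn]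
    refine congrArg List.ofFn (funext fun a => ?_)
    refine congrArg (c.pt.presheaf.germ U₂ p hpU₂) ?_
    exact (appLE_of_comp_apply (cP.w ψ₂) _ hπ₂ _ (t a)).symm
  -- a stage where it is weakly regular everywhere
  obtain ⟨m, θ, hm⟩ : ∃ (j : I) (θ : j ⟶ l₂.left), ∀ (q : D.obj j) (hq : D.map θ q ∈ O₂),
      IsWeaklyRegular ((D.obj l₂.left).presheaf.stalk (D.map θ q))
        (L₂.map ((D.obj l₂.left).presheaf.germ O₂ _ hq).hom) := by
    obtain hN | ⟨hs, -⟩ := hcase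
    · haveI := hN l₂.left
      obtain ⟨j, θ, hj⟩ := ((qcImage_of_isOpen_isCompact O₂.2 hO₂.isCompact).inter_isClosed
        (isOpen_germs hO₂ L₂).isClosed_compl).exists_preimage_eq_empty hc
        (Set.eq_empty_iff_forall_notMem.2 fun p hp => hp.2 ⟨hp.1, hgood p hp.1⟩)
      refine ⟨j, θ, fun q hq => ?_⟩
      by_contra hbad
      exact (Set.eq_empty_iff_forall_notMem.1 hj q) ⟨hq, fun ⟨_, hh⟩ => hbad hh⟩
    · refine ⟨l₂.left, 𝟙 _, fun q => ?_⟩
      obtain ⟨p, hp⟩ : D.map (𝟙 l₂.left) q ∈ Set.range (c.π.app l₂.left) := by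
        rw [range_π_eq_iInter hc l₂.left]
        exact Set.mem_iInter₂.2 fun j θ => (hs j _ θ).surj _
      intro hq
      revert hq
      rw [← hp]
      exact hgood p
  let M : Over i := Over.mk (θ ≫ l₂.hom)
  have hMl : D.map θ ≫ D.map l₂.hom = D.map M.hom := (D.map_comp θ l₂.hom).symm
  let Om : (D.obj m).Opens := D.map θ ⁻¹ᵁ O₂
  have hOm : IsAffineOpen Om := hO₂.preimage _
  have hWm : Om ≤ D.map M.hom ⁻¹ᵁ W₀ := fun p hp =>
    (congrArg (· ∈ W₀) (apply_of_comp hMl p)).mp (hW χ₂ hp)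
  haveI := hflat m _ θ
  let Lm : List Γ(D.obj m, Om) := L₂.map ((D.map θ).appLE O₂ Om le_rfl).hom
  have hwm : IsWeaklyRegular Γ(D.obj m, Om) Lm :=
    sec_of_germs hOm _ fun q hq => (germs_iff_of_flat (D.map θ) le_rfl L₂ q hq).2 (hm q hq)
  refine ⟨M, Om, ?_, fun y hy => ?_⟩
  · exact (congrArg (· ∈ O₂) (apply_of_comp (c.w θ) x)).mpr
      ((congrArg (· ∈ O) (apply_of_comp (cP.w χ₂) x)).mpr hxO)
  · obtain ⟨hclm, hkerm⟩ := H29Slice.restrict_baseChange
      (IsPullback.of_hasPullback j₀ (D.map M.hom)) hW₀ hcl₀ hOm (e := hWm)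
    have hkerm' : RingHom.ker ((pullback.snd j₀ (D.map M.hom)).app Om).hom = Ideal.ofList Lm := by
      rw [hkerm]
      have e3 := congrArg (Ideal.map ((D.map θ).appLE O₂ Om le_rfl).hom) hK₂
      rw [Ideal.map_ofList, Ideal.map_map, ← CommRingCat.hom_comp] at e3
      exact (congrArg (fun r => Ideal.map (CommRingCat.Hom.hom r) (RingHom.ker (j₀.app W₀).hom))
        (appLE_of_comp hMl (hW χ₂) _ hWm)).symm.trans e3
    exact ⟨⟨Om, hOm⟩, hy, hclm, Lm, H29Slice.isRegular_of_mem _ y hy hwm hkerm', hkerm'⟩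

theorem regImm_limit_iff (hc : IsLimit c) (hflat : ∀ (i j : I) (f : i ⟶ j), Flat (D.map f))
    (i : I) {Y₀ : Scheme.{u}} (j₀ : Y₀ ⟶ D.obj i) [CompactSpace Y₀] [IsImmersion j₀]
    (hcase : (∀ i : I, IsLocallyNoetherian (D.obj i)) ∨
      ((∀ (i j : I) (f : i ⟶ j), Surjective (D.map f)) ∧ LocallyOfFinitePresentation j₀)) :
    RegImm.IsRegularImmersion RegImm.Kind.regular (pullback.snd j₀ (c.π.app i)) ↔
      ∃ (j : I) (φ : j ⟶ i), RegImm.IsRegularImmersion RegImm.Kind.regular (pullback.snd j₀ (D.map φ)) := by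
  haveI := isAffineHom_π_app D c hc i
  let P : Over i ⥤ Scheme.{u} := Over.forget i ⋙ D
  let cP : Cone P := c.whisker (Over.forget i)
  have hP : IsLimit cP := (Functor.Initial.isLimitWhiskerEquiv (Over.forget i) c).symm hc
  haveI : ∀ (a b : Over i) (f : a ⟶ b), IsAffineHom (P.map f) := fun a b f =>
    inferInstanceAs (IsAffineHom (D.map f.left))
  let ι : ∀ m : Over i, pullback j₀ (D.map m.hom) ⟶ P.obj m := fun m => pullback.snd j₀ (D.map m.hom)
  let Good : ∀ m : Over i, Set ↥(pullback j₀ (D.map m.hom)) := fun m =>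
    {y | RegImm.IsRegularImmersionAt RegImm.Kind.regular (ι m) y}
  have hopen : ∀ m, IsOpen (Good m) := fun m => isOpen_iff_forall_mem_open.2 fun y hy => by
    obtain ⟨U, hyU, hcl, rs, hrs, hker⟩ := hy
    exact ⟨ι m ⁻¹ᵁ U.1, fun y' hy' => ⟨U, hy', hcl, rs,
      H29Slice.isRegular_of_mem (ι m) y' hy' (hrs : RingTheory.Sequence.IsRegular Γ(P.obj m, U.1) rs).toIsWeaklyRegular hker, hker⟩,
      (ι m ⁻¹ᵁ U.1).2, hyU⟩
  have hfst : ∀ {m m' : Over i} (f : m ⟶ m'), P.map f ≫ D.map m'.hom = D.map m.hom := fun f => by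
    rw [← Over.w f, D.map_comp]; rfl
  have hup : ∀ {m m' : Over i} (f : m ⟶ m') (y : ↥(pullback j₀ (D.map m.hom))),
      pullback.map j₀ (D.map m.hom) j₀ (D.map m'.hom) (𝟙 Y₀) (P.map f) (𝟙 _)
        (by simp) (by simp [hfst f]) y ∈ Good m' → y ∈ Good m := fun {m m'} f y hy => by
    haveI : Flat (P.map f) := hflat _ _ f.left
    exact regImmAt_baseChange (isPullback_map_snd j₀ (P.map f) _ _ (hfst f)) y hy
  constructor
  · rintro ⟨-, hz⟩
    choose mz O hxO hgood using fun z => exists_regImmAt_stage hc hflat i j₀ hcase z (hz z)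
    haveI : CompactSpace ↥(pullback j₀ (c.π.app i)) :=
      QuasiCompact.compactSpace_of_compactSpace (pullback.fst j₀ (c.π.app i))
    let il := pullback.snd j₀ (c.π.app i)
    obtain ⟨s, hs⟩ := isCompact_univ.elim_finite_subcover
      (fun w => ((il ≫ cP.π.app (mz w)) ⁻¹ᵁ O w : Set ↥(pullback j₀ (c.π.app i))))
      (fun w => ((il ≫ cP.π.app (mz w)) ⁻¹ᵁ O w).2) (fun z _ => Set.mem_iUnion.2 ⟨z, hxO z⟩)
    classical
    obtain ⟨m, hm⟩ := IsCofiltered.inf_objs_exists (s.image mz)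
    haveI : CompactSpace ↥(pullback j₀ (D.map m.hom)) :=
      QuasiCompact.compactSpace_of_compactSpace (pullback.fst j₀ (D.map m.hom))
    have hbad : QCImage (ι m '' (Good m)ᶜ) := by
      obtain ⟨κ, hκ, T, a, hT, ha⟩ :=
        (qcImage_range (𝟙 (pullback j₀ (D.map m.hom)))).inter_isClosed (hopen m).isClosed_compl
      refine ⟨κ, hκ, T, fun b => a b ≫ ι m, hT, ?_⟩
      simp only [Scheme.Hom.comp_base, TopCat.coe_comp, Set.range_comp]
      rw [← Set.image_iUnion, ha]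
      simp
    have hempty : cP.π.app m ⁻¹' (ι m '' (Good m)ᶜ) = ∅ := by
      refine Set.eq_empty_iff_forall_notMem.2 fun p ⟨y, hy, hyp⟩ => hy ?_
      have hp : c.π.app i p = j₀ (pullback.fst j₀ (D.map m.hom) y) := by
        refine (apply_of_comp (c.w m.hom) p).symm.trans ((congrArg _ hyp.symm).trans ?_)
        exact (apply_of_comp pullback.condition.symm y).trans
          (apply_of_comp (rfl : pullback.fst j₀ _ ≫ j₀ = _) y).symm
      obtain ⟨z, -, hzp⟩ := Scheme.Pullback.exists_preimage_pullback (f := j₀) (g := c.π.app i) _ p hp.symm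
      obtain ⟨w, hw, hzw⟩ := Set.mem_iUnion₂.1 (hs (Set.mem_univ z))
      obtain ⟨f⟩ := hm (Finset.mem_image_of_mem mz hw)
      refine hup f y (hgood w _ ?_)
      refine (congrArg (· ∈ O w) ?_).mpr hzw
      refine (apply_of_comp (isPullback_map_snd j₀ (P.map f) _ _ (hfst f)).w y).trans ?_
      refine (apply_of_comp (rfl : ι m ≫ P.map f = _) y).symm.trans ?_
      refine (congrArg (P.map f) hyp).trans ?_
      refine (apply_of_comp (cP.w f) p).trans ?_
      exact (congrArg (cP.π.app (mz w)) hzp.symm).trans (apply_of_comp (rfl : il ≫ cP.π.app (mz w) = _) z)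
    obtain ⟨k, ψ, hk⟩ := hbad.exists_preimage_eq_empty hP hempty
    refine ⟨k.left, k.hom, MorphismProperty.pullback_snd _ _ inferInstance, fun y => ?_⟩
    refine hup ψ y (not_not.1 fun hy => ?_)
    refine (Set.eq_empty_iff_forall_notMem.1 hk (ι k y)) ⟨_, hy, ?_⟩
    exact (apply_of_comp (isPullback_map_snd j₀ (P.map ψ) _ _ (hfst ψ)).w y).trans
      (apply_of_comp (rfl : ι k ≫ P.map ψ = _) y).symm
  · rintro ⟨j, φ, -, h⟩
    refine ⟨MorphismProperty.pullback_snd _ _ inferInstance, fun z => ?_⟩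
    haveI := isAffineHom_π_app D c hc j
    haveI : Flat (c.π.app j) := flat_π_app hc j fun k ψ => hflat k j ψ
    exact regImmAt_baseChange (isPullback_map_snd j₀ (c.π.app j) (D.map φ) (c.π.app i) (c.w φ)) z (h _)

end Groth.Agent.H7Lim.WReg
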