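import Groth.Agent.H29Slice.TransBC
import Groth.Agent.H8Props.SliceTools.Ring
import Groth.Agent.H9CI.RelGCIProps
import Groth.Agent.H7Lim.DescendFlat

/-!
# Transversally regular sequences over a filtered colimit of rings
-/

set_option autoImplicit false
set_option linter.style.haveILetI false
set_option maxHeartbeats 1000000

universe u

open TensorProduct RingTheory.Sequence
open Groth.Agent.H02CA.ColimTensor (Hom Approx)

namespace Groth.Agent.H7Lim.TransReg

/-- Weak regularity descends along maps reflecting the membership in extended ideals. -/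
theorem isWeaklyRegular_of_comap_map {R S : Type u} [CommRing R] [CommRing S] (φ : R →+* S) (rs : List R)
    (hφ : ∀ I : Ideal R, (I.map φ).comap φ = I) (h : IsWeaklyRegular S (rs.map φ)) :
    IsWeaklyRegular R rs := by
  rw [H29Slice.isWeaklyRegular_iff_elementwise] at h ⊢
  intro i hi x hx
  rw [← hφ (Ideal.ofList (rs.take i)), Ideal.mem_comap, Ideal.map_ofList, List.map_take]
  refine h i (by simpa using hi) _ ?_
  rw [List.getElem_map, ← map_mul, ← List.map_take, ← Ideal.map_ofList]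
  exact Ideal.mem_map_of_mem _ hx

/-- Transport of weak regularity along a ring isomorphism. -/
theorem isWeaklyRegular_of_equiv {R S : Type u} [CommRing R] [CommRing S] (e : R ≃+* S) (rs : List R)
    (h : IsWeaklyRegular R rs) : IsWeaklyRegular S (rs.map e) := by
  refine isWeaklyRegular_of_comap_map e.symm.toRingHom _
    (fun I => Ideal.comap_map_of_bijective _ e.symm.bijective) ?_
  rw [List.map_map]
  convert h using 1
  exact (List.map_congr_left fun x _ => e.symm_apply_apply x).trans (List.map_id rs)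

/-- Weak regularity is local for a family generating the unit ideal. -/
theorem isWeaklyRegular_of_span {R : Type u} [CommRing R] (rs : List R) (s : Set R)
    (hs : Ideal.span s = ⊤) (h : ∀ b ∈ s, IsWeaklyRegular (Localization.Away b)
      (rs.map (algebraMap R (Localization.Away b)))) : IsWeaklyRegular R rs := by
  rw [H29Slice.isWeaklyRegular_iff_elementwise]
  intro i hi x hx
  refine Submodule.mem_of_span_eq_top_of_smul_pow_mem _ s hs x fun ⟨b, hb⟩ => ?_
  have hb' := (H29Slice.isWeaklyRegular_iff_elementwise _).1 (h b hb) i (by simpa using hi)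
    (algebraMap R _ x) (by
      rw [List.getElem_map, ← map_mul, ← List.map_take, ← Ideal.map_ofList]
      exact Ideal.mem_map_of_mem _ hx)
  rw [← List.map_take, ← Ideal.map_ofList,
    IsLocalization.algebraMap_mem_map_algebraMap_iff (Submonoid.powers b)] at hb'
  obtain ⟨_, ⟨n, rfl⟩, hn⟩ := hb'
  exact ⟨n, hn⟩

/-- A sequence regular on some fibre over a field extension is regular on the fibre. -/
theorem fibReg_of_fibre {A B : Type u} [CommRing A] [CommRing B] [Algebra A B] (K : Type u) [Field K]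
    [Algebra A K] (q : Ideal B) [q.IsPrime] (hK : RingHom.ker (algebraMap A K) = q.comap (algebraMap A B))
    (fs : List B) (h : IsWeaklyRegular (K ⊗[A] B) (fs.map fun f => (1 : K) ⊗ₜ[A] f)) :
    H8Props.SliceTools.FibReg (A := A) q fs := by
  intro i hi c t ht hmem
  set p := q.comap (algebraMap A B) with hp
  let inc : B →+* K ⊗[A] B :=
    (Algebra.TensorProduct.includeRight : B →ₐ[A] K ⊗[A] B).toRingHom
  let J := Ideal.ofList (fs.take i)
  have hJ : J.map inc = Ideal.ofList ((fs.map fun f => (1 : K) ⊗ₜ[A] f).take i) := by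
    rw [Ideal.map_ofList, ← List.map_take]; rfl
  have hp0 : ((p.map (algebraMap A B)).map inc : Ideal (K ⊗[A] B)) = ⊥ := by
    rw [Ideal.map_map, eq_bot_iff, Ideal.map_le_iff_le_comap]
    intro a ha
    show (1 : K) ⊗ₜ[A] algebraMap A B a = 0
    rw [← Algebra.TensorProduct.tmul_one_eq_one_tmul, show algebraMap A K a = 0 from
      RingHom.mem_ker.1 (hK.ge ha), zero_tmul]
  have h1 : inc (fs[i]) * inc (t * c) ∈ J.map inc := by
    have h0 := Ideal.mem_map_of_mem inc hmem
    rw [Ideal.map_sup, hp0, bot_sup_eq, mul_left_comm, map_mul] at h0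
    exact h0
  rw [hJ] at h1
  have h2 : inc (t * c) ∈ J.map inc := by
    rw [hJ]
    refine (H29Slice.isWeaklyRegular_iff_elementwise _).1 h i (by simpa using hi) _ ?_
    rw [List.getElem_map]
    exact h1
  -- from `K` down to the residue field
  let F := p.ResidueField
  let ι : F →ₐ[A] K := Ideal.ResidueField.liftₐ p (Algebra.ofId A K) hK.ge fun a ha =>
    isUnit_iff_ne_zero.mpr fun h0 => ha (hK.le (RingHom.mem_ker.2 h0))
  letI : Algebra F K := ι.toRingHom.toAlgebra
  haveI : IsScalarTower A F K := .of_algebraMap_eq fun a => (ι.commutes a).symm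
  obtain ⟨π₀, hπ⟩ := (Algebra.linearMap F K).exists_leftInverse_of_injective
    (LinearMap.ker_eq_bot.2 (RingHom.injective (algebraMap F K)))
  let π : K →ₗ[A] F := π₀.restrictScalars A
  let Pm := TensorProduct.map π (LinearMap.id : B →ₗ[A] B)
  have hπ1 : π (1 : K) = 1 := by
    have := LinearMap.congr_fun hπ (1 : F)
    simp only [LinearMap.comp_apply, Algebra.linearMap_apply, map_one, LinearMap.id_apply] at this
    exact this
  have hPmul : ∀ (y : K ⊗[A] B) (b : B), Pm (y * (1 ⊗ₜ b)) = Pm y * (1 ⊗ₜ b) := by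
    intro y b
    induction y using TensorProduct.induction_on with
    | zero => simp
    | add u v hu hv => simp only [add_mul, map_add, hu, hv]
    | tmul k b' =>
      simp only [Pm, Algebra.TensorProduct.tmul_mul_tmul, mul_one, TensorProduct.map_tmul, LinearMap.id_apply]
  let incF : B →+* F ⊗[A] B :=
    (Algebra.TensorProduct.includeRight : B →ₐ[A] F ⊗[A] B).toRingHom
  have hPmJ : ∀ y ∈ J.map inc, Pm y ∈ J.map incF := by
    intro y hy
    induction hy using Submodule.span_induction with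
    | zero => simp
    | add u v _ _ hu hv => rw [map_add]; exact add_mem hu hv
    | mem u hu =>
      obtain ⟨b, hb, rfl⟩ := hu
      show Pm ((1 : K) ⊗ₜ b) ∈ _
      rw [TensorProduct.map_tmul, hπ1]
      exact Ideal.mem_map_of_mem incF hb
    | smul r u hu' hu =>
      clear hu
      induction hu' using Submodule.span_induction generalizing r with
      | zero => simp
      | add u v _ _ hu hv => rw [smul_add, map_add]; exact add_mem (hu r) (hv r)
      | smul r' u _ hu => rw [smul_smul]; exact hu _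
      | mem u hu =>
        obtain ⟨b, hb, rfl⟩ := hu
        show Pm (r * ((1 : K) ⊗ₜ b)) ∈ _
        rw [hPmul]
        exact Ideal.mul_mem_left _ _ (Ideal.mem_map_of_mem incF hb)
  have h3 : incF (t * c) ∈ J.map incF := by
    have := hPmJ _ h2
    rwa [show Pm (inc (t * c)) = incF (t * c) from
      (TensorProduct.map_tmul _ _ _ _).trans (by rw [hπ1]; rfl)] at this
  -- from the residue field to a localization of `B / pB`
  let Q := B ⧸ p.map (algebraMap A B)
  let R := Localization (Algebra.algebraMapSubmonoid Q p.primeCompl)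
  let ψ : F →ₐ[A] R := Ideal.ResidueField.liftₐ p (Algebra.ofId A R)
    (fun a ha => by
      rw [RingHom.mem_ker]
      show algebraMap A R a = 0
      rw [IsScalarTower.algebraMap_apply A Q R, IsScalarTower.algebraMap_apply A B Q]
      rw [show algebraMap B Q (algebraMap A B a) = 0 from
        Ideal.Quotient.eq_zero_iff_mem.2 (Ideal.mem_map_of_mem _ ha), map_zero])
    (fun a ha => by
      show IsUnit (algebraMap A R a)
      rw [IsScalarTower.algebraMap_apply A Q R]
      exact IsLocalization.map_units R (⟨algebraMap A Q a, a, ha, rfl⟩ :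
        Algebra.algebraMapSubmonoid Q p.primeCompl))
  let Ψ : F ⊗[A] B →ₐ[A] R := Algebra.TensorProduct.lift ψ
    ((IsScalarTower.toAlgHom A Q R).comp (Ideal.Quotient.mkₐ A _)) fun _ _ => Commute.all _ _
  have hΨ : Ψ.toRingHom.comp incF = (algebraMap Q R).comp (Ideal.Quotient.mk (p.map (algebraMap A B))) := by
    ext b
    show Ψ ((1 : F) ⊗ₜ b) = _
    rw [Algebra.TensorProduct.lift_tmul, map_one, one_mul]
    rfl
  have h4 := Ideal.mem_map_of_mem Ψ.toRingHom h3
  rw [Ideal.map_map, hΨ, ← Ideal.map_map, ← RingHom.comp_apply, hΨ, RingHom.comp_apply,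
    IsLocalization.algebraMap_mem_map_algebraMap_iff (Algebra.algebraMapSubmonoid Q p.primeCompl) R] at h4
  obtain ⟨_, ⟨a, ha, rfl⟩, h5⟩ := h4
  refine ⟨algebraMap A B a * t, fun hq => (‹q.IsPrime›.mem_or_mem hq).elim ha ht, ?_⟩
  change Ideal.Quotient.mk (p.map (algebraMap A B)) (algebraMap A B a) *
    Ideal.Quotient.mk _ (t * c) ∈ J.map (Ideal.Quotient.mk _) at h5
  rw [← map_mul, Ideal.mem_quotient_iff_mem_sup, sup_comm] at h5
  rw [mul_assoc]
  exact h5

/-- Near a prime where it is fibrewise regular, a sequence is transversally regular. -/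
theorem exists_transReg_away {A B : Type u} [CommRing A] [CommRing B] [Algebra A B]
    [Algebra.FinitePresentation A B] [Module.Flat A B] (fs : List B) (q : PrimeSpectrum B)
    (h : H8Props.SliceTools.FibReg (A := A) q.asIdeal fs) :
    ∃ b ∉ q.asIdeal, RegImm.IsTransRegularSeq A (Localization.Away b)
      (fs.map (algebraMap B (Localization.Away b))) := by
  classical
  by_cases hall : ∀ f ∈ fs, f ∈ q.asIdeal
  · obtain ⟨b, hb, hL⟩ := H8Props.SliceTools.exists_transReg_of_fibReg _ B fs rfl q hall h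
    exact ⟨b, hb, hL _⟩
  push_neg at hall
  obtain ⟨f₀, hf₀, hf₀q⟩ := hall
  have hex : ∃ i, ∃ hi : i < fs.length, fs[i] ∉ q.asIdeal := by
    obtain ⟨i, hi, rfl⟩ := List.getElem_of_mem hf₀
    exact ⟨i, hi, hf₀q⟩
  let n := Nat.find hex
  obtain ⟨hn, hnq⟩ := Nat.find_spec hex
  have hpre : ∀ f ∈ fs.take n, f ∈ q.asIdeal := fun f hf => by
    obtain ⟨i, hi, rfl⟩ := List.getElem_of_mem hf
    rw [List.length_take] at hi
    rw [List.getElem_take]
    by_contra hc
    exact Nat.find_min hex (lt_of_lt_of_le hi (min_le_left _ _)) ⟨_, hc⟩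
  obtain ⟨b, hb, hL⟩ := H8Props.SliceTools.exists_transReg_of_fibReg _ B (fs.take n) rfl q hpre
    fun i hi c t ht hmem => by
      rw [List.length_take] at hi
      rw [List.getElem_take, List.take_take, min_eq_left (le_of_lt (lt_of_lt_of_le hi (min_le_left _ _)))] at hmem
      rw [List.take_take, min_eq_left (le_of_lt (lt_of_lt_of_le hi (min_le_left _ _)))]
      exact h i (lt_of_lt_of_le hi (min_le_right _ _)) c t ht hmem
  refine ⟨b * fs[n], fun hq => (q.isPrime.mem_or_mem hq).elim hb hnq, ?_⟩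
  let L₀ := Localization.Away b
  let L := Localization.Away (b * fs[n])
  have hub : IsUnit (algebraMap B L b) :=
    isUnit_of_mul_isUnit_left (by rw [← map_mul]; exact IsLocalization.Away.algebraMap_isUnit (b * fs[n]))
  have huf : IsUnit (algebraMap B L fs[n]) :=
    isUnit_of_mul_isUnit_right (by rw [← map_mul]; exact IsLocalization.Away.algebraMap_isUnit (b * fs[n]))
  letI : Algebra L₀ L := (IsLocalization.Away.lift b hub).toAlgebra
  haveI : IsScalarTower B L₀ L :=
    .of_algebraMap_eq fun x => (IsLocalization.Away.lift_eq b hub x).symm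
  haveI : IsScalarTower A L₀ L := .of_algebraMap_eq fun a => by
    rw [IsScalarTower.algebraMap_apply A B L, IsScalarTower.algebraMap_apply A B L₀,
      ← IsScalarTower.algebraMap_apply B L₀ L]
  haveI : IsLocalization.Away (algebraMap B L₀ fs[n]) L := by
    let L' := Localization.Away (algebraMap B L₀ fs[n])
    haveI : IsLocalization.Away (b * fs[n]) L' := IsLocalization.Away.mul' L₀ L' b fs[n]
    let e : L' ≃ₐ[B] L := IsLocalization.algEquiv (Submonoid.powers (b * fs[n])) L' L
    exact IsLocalization.isLocalization_of_algEquiv _ (AlgEquiv.ofRingEquiv (f := e.toRingEquiv) fun x => by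
      obtain ⟨⟨y, ⟨_, k, rfl⟩⟩, hx⟩ := IsLocalization.surj (Submonoid.powers b) x
      have hu : IsUnit (algebraMap B L (b ^ k)) := by rw [map_pow]; exact hub.pow k
      refine hu.mul_left_inj.1 ?_
      rw [show algebraMap L₀ L x * algebraMap B L (b ^ k) = algebraMap B L y by
        rw [IsScalarTower.algebraMap_apply B L₀ L, ← map_mul, hx, ← IsScalarTower.algebraMap_apply]]
      rw [← e.commutes (b ^ k), ← e.commutes y]
      show e (algebraMap L₀ L' x) * e (algebraMap B L' (b ^ k)) = _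
      rw [← map_mul, IsScalarTower.algebraMap_apply B L₀ L', ← map_mul, hx,
        ← IsScalarTower.algebraMap_apply])
  obtain ⟨hw, hfl⟩ := H9CI.isTransRegularSeq_localization (L := L)
    (Submonoid.powers (algebraMap B L₀ fs[n])) (hL L₀)
  rw [List.map_map, ← RingHom.coe_comp, ← IsScalarTower.algebraMap_eq] at hw hfl
  have htop : ∀ j, n < j → Ideal.ofList ((fs.map (algebraMap B L)).take j) = ⊤ := fun j hj =>
    Ideal.eq_top_of_isUnit_mem _ (Ideal.subset_span (List.mem_take_iff_getElem.2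
      ⟨n, by simp only [List.length_map]; exact lt_min hj hn, by simp⟩)) huf
  have hle : ∀ j, j ≤ n → ((fs.take n).map (algebraMap B L)).take j = (fs.map (algebraMap B L)).take j :=
    fun j hj => by rw [List.map_take, List.take_take, min_eq_left hj]
  constructor
  · rw [H29Slice.isWeaklyRegular_iff_elementwise] at hw ⊢
    intro i hi x hx
    rcases lt_trichotomy i n with h' | h' | h'
    · have := hw i (by simp [List.length_take]; omega) x
      rw [hle i h'.le] at this
      refine this ?_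
      simpa using hx
    · subst h'
      rw [List.getElem_map] at hx
      exact (Ideal.unit_mul_mem_iff_mem _ huf).1 hx
    · rw [htop i h']; trivial
  · intro j hj
    rcases le_or_gt j n with h' | h'
    · rw [← hle j h']
      exact hfl j (by simp [List.length_take] at hj ⊢; omega)
    · haveI : Subsingleton (L ⧸ Ideal.ofList ((fs.map (algebraMap B L)).take j)) :=
        Ideal.Quotient.subsingleton_iff.2 (htop j h')
      infer_instance

theorem flat_quotient_tensor_iff {A₀ G B₀ : Type u} [CommRing A₀] [CommRing G] [CommRing B₀]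
    [Algebra A₀ G] [Algebra A₀ B₀] (fs : List B₀) (k : ℕ) :
    Module.Flat G ((G ⊗[A₀] B₀) ⧸ Ideal.ofList ((fs.map fun f => (1 : G) ⊗ₜ[A₀] f).take k)) ↔
      Module.Flat G (G ⊗[A₀] (B₀ ⧸ Ideal.ofList (fs.take k))) := by
  have h : Ideal.ofList ((fs.map fun f => (1 : G) ⊗ₜ[A₀] f).take k) =
      (Ideal.ofList (fs.take k)).map
        (Algebra.TensorProduct.includeRight : B₀ →ₐ[A₀] G ⊗[A₀] B₀) := by
    rw [← List.map_take]
    exact (Ideal.map_ofList (Algebra.TensorProduct.includeRight : B₀ →ₐ[A₀] G ⊗[A₀] B₀).toRingHom _).symm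
  rw [h]
  exact Module.Flat.equiv_iff
    (Algebra.TensorProduct.tensorQuotientEquiv (R := A₀) G B₀ G (Ideal.ofList (fs.take k))).toLinearEquiv.symm

/-- Base change of a sequence transversally regular on a basic open. -/
theorem isWeaklyRegular_away_baseChange {A₀ G₁ G₂ B₀ : Type u} [CommRing A₀] [CommRing G₁] [CommRing G₂]
    [CommRing B₀] [Algebra A₀ G₁] [Algebra A₀ G₂] [Algebra A₀ B₀] (χ : G₁ →ₐ[A₀] G₂) (fs : List B₀)
    (b : G₁ ⊗[A₀] B₀) (hb : RegImm.IsTransRegularSeq G₁ (Localization.Away b)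
      ((fs.map fun f => (1 : G₁) ⊗ₜ[A₀] f).map (algebraMap (G₁ ⊗[A₀] B₀) (Localization.Away b)))) :
    IsWeaklyRegular (Localization.Away (Algebra.TensorProduct.map χ (AlgHom.id A₀ B₀) b))
      ((fs.map fun f => (1 : G₂) ⊗ₜ[A₀] f).map (algebraMap (G₂ ⊗[A₀] B₀)
        (Localization.Away (Algebra.TensorProduct.map χ (AlgHom.id A₀ B₀) b)))) := by
  letI := χ.toRingHom.toAlgebra
  haveI : IsScalarTower A₀ G₁ G₂ := .of_algebraMap_eq fun x => (χ.commutes x).symm
  let V := Algebra.TensorProduct.map χ (AlgHom.id A₀ B₀)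
  let L := Localization.Away b
  let L' := Localization.Away (V b)
  have h1 := H29Slice.isWeaklyRegular_baseChange G₁ L G₂ hb
  let iL : L →+* G₂ ⊗[G₁] L := (Algebra.TensorProduct.includeRight : L →ₐ[G₁] G₂ ⊗[G₁] L).toRingHom
  let θ₀ : G₂ ⊗[A₀] B₀ →+* G₂ ⊗[G₁] L :=
    (Algebra.TensorProduct.lift (R := A₀) (S := A₀) (IsScalarTower.toAlgHom A₀ G₂ (G₂ ⊗[G₁] L))
      (((Algebra.TensorProduct.includeRight : L →ₐ[G₁] G₂ ⊗[G₁] L).restrictScalars A₀).comp
        ((IsScalarTower.toAlgHom A₀ (G₁ ⊗[A₀] B₀) L).comp Algebra.TensorProduct.includeRight))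
      fun _ _ => Commute.all _ _).toRingHom
  have hθ₀ : θ₀.comp V.toRingHom = iL.comp (algebraMap (G₁ ⊗[A₀] B₀) L) := by
    apply Algebra.TensorProduct.ringHom_ext
    · refine RingHom.ext fun x => ?_
      show θ₀ (χ x ⊗ₜ[A₀] (1 : B₀)) = (1 : G₂) ⊗ₜ[G₁] algebraMap (G₁ ⊗[A₀] B₀) L (x ⊗ₜ 1)
      simp only [θ₀, AlgHom.toRingHom_eq_coe, RingHom.coe_coe, Algebra.TensorProduct.lift_tmul, map_one,
        mul_one]
      rw [show algebraMap (G₁ ⊗[A₀] B₀) L (x ⊗ₜ 1) = algebraMap G₁ L x from
        (IsScalarTower.algebraMap_apply G₁ (G₁ ⊗[A₀] B₀) L x).symm, ← Algebra.TensorProduct.tmul_one_eq_one_tmul]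
      rfl
    · refine RingHom.ext fun y => ?_
      show θ₀ (χ 1 ⊗ₜ[A₀] y) = (1 : G₂) ⊗ₜ[G₁] algebraMap (G₁ ⊗[A₀] B₀) L (1 ⊗ₜ y)
      simp only [θ₀, AlgHom.toRingHom_eq_coe, RingHom.coe_coe, Algebra.TensorProduct.lift_tmul, map_one,
        one_mul]
      rfl
  let θ : L' →+* G₂ ⊗[G₁] L := IsLocalization.Away.lift (V b) (g := θ₀) (by
    rw [show θ₀ (V b) = iL (algebraMap _ L b) from RingHom.congr_fun hθ₀ b]
    exact (IsLocalization.Away.algebraMap_isUnit b).map iL)
  let ζ₀ : L →+* L' := IsLocalization.Away.lift b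
    (g := (algebraMap (G₂ ⊗[A₀] B₀) L').comp V.toRingHom) (IsLocalization.Away.algebraMap_isUnit (V b))
  have hζ₀ : ∀ x, ζ₀ (algebraMap G₁ L x) = algebraMap G₁ L' x := fun x => by
    rw [IsScalarTower.algebraMap_apply G₁ G₂ L']
    show ζ₀ (algebraMap G₁ L x) = algebraMap G₂ L' (χ x)
    rw [IsScalarTower.algebraMap_apply G₁ (G₁ ⊗[A₀] B₀) L, IsLocalization.Away.lift_eq,
      IsScalarTower.algebraMap_apply G₂ (G₂ ⊗[A₀] B₀) L']
    show algebraMap _ L' (χ x ⊗ₜ[A₀] AlgHom.id A₀ B₀ 1) = _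
    rfl
  let ζ₁ : L →ₐ[G₁] L' := { ζ₀ with commutes' := hζ₀ }
  let ζ : G₂ ⊗[G₁] L →+* L' :=
    (Algebra.TensorProduct.lift (IsScalarTower.toAlgHom G₁ G₂ L') ζ₁ fun _ _ => Commute.all _ _).toRingHom
  have hζl : ∀ a, ζ (a ⊗ₜ[G₁] (1 : L)) = algebraMap G₂ L' a := fun a =>
    (Algebra.TensorProduct.lift_tmul (IsScalarTower.toAlgHom G₁ G₂ L') ζ₁ (fun _ _ => Commute.all _ _) a 1).trans
      (by rw [map_one, mul_one]; rfl)
  have hζr : ∀ l, ζ ((1 : G₂) ⊗ₜ[G₁] l) = ζ₀ l := fun l =>
    (Algebra.TensorProduct.lift_tmul (IsScalarTower.toAlgHom G₁ G₂ L') ζ₁ (fun _ _ => Commute.all _ _) 1 l).trans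
      (by rw [map_one, one_mul]; rfl)
  have hθl : ∀ x, θ₀ (x ⊗ₜ[A₀] (1 : B₀)) = x ⊗ₜ[G₁] (1 : L) := fun x => by
    simp only [θ₀, AlgHom.toRingHom_eq_coe, RingHom.coe_coe, Algebra.TensorProduct.lift_tmul, map_one, mul_one]
    rfl
  have hθr : ∀ y, θ₀ ((1 : G₂) ⊗ₜ[A₀] y) = (1 : G₂) ⊗ₜ[G₁] algebraMap (G₁ ⊗[A₀] B₀) L (1 ⊗ₜ y) := fun y => by
    simp only [θ₀, AlgHom.toRingHom_eq_coe, RingHom.coe_coe, Algebra.TensorProduct.lift_tmul, map_one, one_mul]
    rfl
  have hVr : ∀ y, V ((1 : G₁) ⊗ₜ[A₀] y) = (1 : G₂) ⊗ₜ[A₀] y := fun y => by simp [V]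
  have hζθ : ζ.comp θ = RingHom.id L' := by
    refine IsLocalization.ringHom_ext (Submonoid.powers (V b)) ?_
    rw [RingHom.comp_assoc, RingHom.id_comp]
    have hθ : θ.comp (algebraMap (G₂ ⊗[A₀] B₀) L') = θ₀ :=
      RingHom.ext fun z => IsLocalization.Away.lift_eq (S := L') (g := θ₀) (V b)
        (by rw [show θ₀ (V b) = iL (algebraMap _ L b) from RingHom.congr_fun hθ₀ b]
            exact (IsLocalization.Away.algebraMap_isUnit b).map iL) z
    rw [hθ]
    apply Algebra.TensorProduct.ringHom_ext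
    · refine RingHom.ext fun x => ?_
      show ζ (θ₀ (x ⊗ₜ[A₀] (1 : B₀))) = algebraMap (G₂ ⊗[A₀] B₀) L' (x ⊗ₜ 1)
      rw [hθl, hζl]
      exact IsScalarTower.algebraMap_apply G₂ (G₂ ⊗[A₀] B₀) L' x
    · refine RingHom.ext fun y => ?_
      show ζ (θ₀ ((1 : G₂) ⊗ₜ[A₀] y)) = algebraMap (G₂ ⊗[A₀] B₀) L' (1 ⊗ₜ y)
      rw [hθr, hζr]
      refine (IsLocalization.Away.lift_eq b _ _).trans ?_
      exact congrArg (algebraMap (G₂ ⊗[A₀] B₀) L') (hVr y)
  refine isWeaklyRegular_of_comap_map θ _ (fun I => le_antisymm (fun x hx => ?_) Ideal.le_comap_map) ?_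
  · have := Ideal.mem_map_of_mem ζ (Ideal.mem_comap.1 hx)
    rw [Ideal.map_map, hζθ, Ideal.map_id, ← RingHom.comp_apply, hζθ] at this
    exact this
  refine Eq.mp (congrArg (IsWeaklyRegular (G₂ ⊗[G₁] L)) ?_) h1
  rw [List.map_map, List.map_map, List.map_map, List.map_map]
  refine List.map_congr_left fun f _ => Eq.symm ?_
  refine (IsLocalization.Away.lift_eq (V b) _ _).trans ?_
  exact hθr f

variable {ι : Type u} {A₀ : Type u} [CommRing A₀] {G : ι → Type u} [∀ i, CommRing (G i)]
  [∀ i, Algebra A₀ (G i)] {A : Type u} [CommRing A] [Algebra A₀ A] {g : ∀ i, G i →ₐ[A₀] A}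

/-- Transversal regularity over a colimit of rings holds at some stage. -/
theorem exists_transReg_stage (hG : Approx g G A (fun i ↦ g i) (fun φ ↦ φ.1))
    (B₀ : Type u) [CommRing B₀] [Algebra A₀ B₀] [Algebra.FinitePresentation A₀ B₀] (fs : List B₀)
    (h : RegImm.IsTransRegularSeq A (A ⊗[A₀] B₀) (fs.map fun f => (1 : A) ⊗ₜ[A₀] f)) :
    ∃ j : ι, RegImm.IsTransRegularSeq (G j) (G j ⊗[A₀] B₀) (fs.map fun f => (1 : G j) ⊗ₜ[A₀] f) := by
  classical
  have hup : ∀ {i j} (_ : Hom g i j) (C : Type u) [CommRing C] [Algebra A₀ C],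
      Module.Flat (G i) (G i ⊗[A₀] C) → Module.Flat (G j) (G j ⊗[A₀] C) := by
    intro i j φ C _ _ hC
    letI := φ.1.toRingHom.toAlgebra
    haveI : IsScalarTower A₀ (G i) (G j) := .of_algebraMap_eq fun x => (φ.1.commutes x).symm
    exact Module.Flat.of_linearEquiv
      (AlgebraTensorModule.cancelBaseChange A₀ (G i) (G j) (G j) C).symm
  have hstage : ∀ n, n ≤ fs.length + 1 → ∃ i, ∀ k, k < n →
      Module.Flat (G i) (G i ⊗[A₀] (B₀ ⧸ Ideal.ofList (fs.take k))) := by
    intro n
    induction n with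
    | zero => exact fun _ => ⟨hG.ne.some, fun k hk => absurd hk (Nat.not_lt_zero k)⟩
    | succ n ih =>
      intro hn
      obtain ⟨i, hi⟩ := ih (by omega)
      haveI : Algebra.FinitePresentation A₀ (B₀ ⧸ Ideal.ofList (fs.take n)) :=
        Algebra.FinitePresentation.quotient ⟨(fs.take n).toFinset, by simp [Ideal.ofList, List.coe_toFinset]⟩
      obtain ⟨i', hi'⟩ := exists_flat_stage hG (B₀ ⧸ Ideal.ofList (fs.take n))
        ((flat_quotient_tensor_iff fs n).1 (h.2 n (by simpa using Nat.le_of_succ_le_succ hn)))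
      obtain ⟨l, ⟨φ⟩, ⟨ψ⟩⟩ := hG.dir i i'
      refine ⟨l, fun k hk => ?_⟩
      rcases Nat.lt_succ_iff_lt_or_eq.1 hk with hk' | rfl
      · exact hup φ _ (hi k hk')
      · exact hup ψ _ hi'
  obtain ⟨i, hi⟩ := hstage _ le_rfl
  have hflat : ∀ k ≤ fs.length, Module.Flat (G i)
      ((G i ⊗[A₀] B₀) ⧸ Ideal.ofList ((fs.map fun f => (1 : G i) ⊗ₜ[A₀] f).take k)) :=
    fun k hk => (flat_quotient_tensor_iff fs k).2 (hi k (by omega))
  let B := G i ⊗[A₀] B₀
  let fsi : List B := fs.map fun f => (1 : G i) ⊗ₜ[A₀] f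
  haveI : Module.Flat (G i) B := by
    have := hflat 0 (Nat.zero_le _)
    rw [List.take_zero, Ideal.ofList_nil] at this
    exact Module.Flat.of_linearEquiv (AlgEquiv.quotientBot (G i) B).toLinearEquiv.symm
  let GB := {b : B | RegImm.IsTransRegularSeq (G i) (Localization.Away b)
      (fsi.map (algebraMap B (Localization.Away b)))}
  let u : B →ₐ[A₀] A ⊗[A₀] B₀ := Algebra.TensorProduct.map (g i) (AlgHom.id A₀ B₀)
  have htop : Ideal.span (u '' GB) = ⊤ := by
    by_contra hne
    obtain ⟨m, hm, hle⟩ := Ideal.exists_le_maximal _ hne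
    haveI := hm.isPrime
    let q : PrimeSpectrum B := ⟨m.comap u.toRingHom, inferInstance⟩
    let P := m.comap (algebraMap A (A ⊗[A₀] B₀))
    let K := P.ResidueField
    letI : Algebra (G i) A := (g i).toRingHom.toAlgebra
    haveI : IsScalarTower A₀ (G i) A := .of_algebraMap_eq fun x => ((g i).commutes x).symm
    haveI : IsScalarTower (G i) A K := inferInstance
    haveI : IsScalarTower A₀ (G i) K := .of_algebraMap_eq fun x => by
      rw [IsScalarTower.algebraMap_apply (G i) A K, ← IsScalarTower.algebraMap_apply A₀ (G i) A,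
        ← IsScalarTower.algebraMap_apply A₀ A K]
    have hker : RingHom.ker (algebraMap (G i) K) = q.asIdeal.comap (algebraMap (G i) B) := by
      ext x
      rw [RingHom.mem_ker, IsScalarTower.algebraMap_apply (G i) A K]
      show algebraMap A K (g i x) = 0 ↔ u (x ⊗ₜ (1 : B₀)) ∈ m
      rw [Ideal.algebraMap_residueField_eq_zero]
      rfl
    have hwK : IsWeaklyRegular (K ⊗[G i] B) (fsi.map fun f => (1 : K) ⊗ₜ[G i] f) := by
      have h1 := H29Slice.isWeaklyRegular_baseChange A (A ⊗[A₀] B₀) K h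
      have h2 := isWeaklyRegular_of_equiv
        ((Algebra.TensorProduct.cancelBaseChange A₀ A A K B₀).toRingEquiv.trans
          (Algebra.TensorProduct.cancelBaseChange A₀ (G i) (G i) K B₀).symm.toRingEquiv) _ h1
      refine Eq.mp (congrArg (IsWeaklyRegular (K ⊗[G i] B)) ?_) h2
      rw [List.map_map, List.map_map, List.map_map]
      refine List.map_congr_left fun f _ => ?_
      simp
    obtain ⟨b, hb, hbG⟩ := exists_transReg_away fsi q (fibReg_of_fibre K q.asIdeal hker fsi hwK)
    exact hb (hle (Ideal.subset_span ⟨b, hbG, rfl⟩))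
  obtain ⟨s, hs, hsum⟩ : ∃ s : Finset B, (∀ b ∈ s, b ∈ GB) ∧ (1 : A ⊗[A₀] B₀) ∈ Ideal.span (u '' (s : Set B)) := by
    have h1 : (1 : A ⊗[A₀] B₀) ∈ Ideal.span (u '' GB) := htop ▸ trivial
    obtain ⟨t, ht, h1t⟩ := Submodule.mem_span_finite_of_mem_span h1
    choose! v hv using fun x (hx : x ∈ u '' GB) => hx
    refine ⟨t.image v, fun b hb => ?_, ?_⟩
    · obtain ⟨x, hx, rfl⟩ := Finset.mem_image.1 hb
      exact (hv x (ht hx)).1
    · refine Ideal.span_mono ?_ h1t
      intro x hx
      exact ⟨v x, Finset.mem_coe.2 (Finset.mem_image_of_mem v hx), (hv x (ht hx)).2⟩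
  rw [← Finset.coe_image, Submodule.mem_span_finset] at hsum
  obtain ⟨c, -, hc⟩ := hsum
  have hw : ∀ x ∈ s.image u, ∃ b ∈ s, u b = x := fun x hx => Finset.mem_image.1 hx
  choose! w hws hwu using hw
  have hT := Approx.rTensor (fun l => (g l).toLinearMap) (fun φ => φ.1.toLinearMap) hG B₀
  obtain ⟨l, φ, d, hd⟩ := hT.exists_lift (fun _ => 0) i (s.image u) c
  let U : G l ⊗[A₀] B₀ →ₐ[A₀] A ⊗[A₀] B₀ := Algebra.TensorProduct.map (g l) (AlgHom.id A₀ B₀)
  let Φ : B →ₐ[A₀] G l ⊗[A₀] B₀ := Algebra.TensorProduct.map φ.1 (AlgHom.id A₀ B₀)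
  let y : G l ⊗[A₀] B₀ := ∑ x ∈ s.image u, d x * Φ (w x)
  have hUy : (g l).toLinearMap.rTensor B₀ y = (g l).toLinearMap.rTensor B₀ 1 := by
    show U y = U 1
    rw [map_one, map_sum, ← hc]
    refine Finset.sum_congr rfl fun x hx => ?_
    rw [map_mul, smul_eq_mul]
    exact congrArg₂ (· * ·) (hd x hx) ((hT.compat φ (w x)).trans (hwu x hx))
  obtain ⟨m, ψ, hψ⟩ := hT.eq l y 1 hUy
  let Ψ : G l ⊗[A₀] B₀ →ₐ[A₀] G m ⊗[A₀] B₀ := Algebra.TensorProduct.map ψ.1 (AlgHom.id A₀ B₀)
  have hψ' : Ψ y = Ψ 1 := hψ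
  rw [map_one] at hψ'
  let χ : Hom g i m := φ.trans ψ
  let V : B →ₐ[A₀] G m ⊗[A₀] B₀ := Algebra.TensorProduct.map χ.1 (AlgHom.id A₀ B₀)
  have hV : ∀ a, V a = Ψ (Φ a) := fun a => by
    induction a using TensorProduct.induction_on with
    | zero => simp
    | add a b ha hb => simp only [map_add, ha, hb]
    | tmul a b => rfl
  refine ⟨m, ?_, fun k hk => ?_⟩
  swap
  · exact (flat_quotient_tensor_iff fs k).2 (hup χ _ (hi k (by simp at hk; omega)))
  refine isWeaklyRegular_of_span _ (V '' GB) ?_ ?_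
  · rw [Ideal.eq_top_iff_one, ← hψ', map_sum]
    refine Ideal.sum_mem _ fun x hx => ?_
    rw [map_mul, ← hV]
    exact Ideal.mul_mem_left _ _ (Ideal.subset_span ⟨w x, hs _ (hws x hx), rfl⟩)
  rintro _ ⟨b, hb, rfl⟩
  exact isWeaklyRegular_away_baseChange χ.1 fs b hb

/-- Base change of transversally regular sequences along a map of bases. -/
theorem isTransRegularSeq_tensor_map {A₀ G₁ G₂ B₀ : Type u} [CommRing A₀] [CommRing G₁] [CommRing G₂]
    [CommRing B₀] [Algebra A₀ G₁] [Algebra A₀ G₂] [Algebra A₀ B₀] (χ : G₁ →ₐ[A₀] G₂) (fs : List B₀)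
    (h : RegImm.IsTransRegularSeq G₁ (G₁ ⊗[A₀] B₀) (fs.map fun f => (1 : G₁) ⊗ₜ[A₀] f)) :
    RegImm.IsTransRegularSeq G₂ (G₂ ⊗[A₀] B₀) (fs.map fun f => (1 : G₂) ⊗ₜ[A₀] f) := by
  letI := χ.toRingHom.toAlgebra
  haveI : IsScalarTower A₀ G₁ G₂ := .of_algebraMap_eq fun x => (χ.commutes x).symm
  refine ⟨?_, fun k hk => ?_⟩
  · have h1 := H29Slice.isWeaklyRegular_baseChange G₁ (G₁ ⊗[A₀] B₀) G₂ h
    have h2 := isWeaklyRegular_of_equiv
      (Algebra.TensorProduct.cancelBaseChange A₀ G₁ G₁ G₂ B₀).toRingEquiv _ h1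
    refine Eq.mp (congrArg (IsWeaklyRegular (G₂ ⊗[A₀] B₀)) ?_) h2
    rw [List.map_map, List.map_map]
    refine List.map_congr_left fun f _ => ?_
    simp
  · have hk' : k ≤ fs.length := by simpa using hk
    haveI := (flat_quotient_tensor_iff (G := G₁) fs k).1 (h.2 k (by simpa using hk'))
    exact (flat_quotient_tensor_iff fs k).2 (Module.Flat.of_linearEquiv
      (AlgebraTensorModule.cancelBaseChange A₀ G₁ G₂ G₂ (B₀ ⧸ Ideal.ofList (fs.take k))).symm)

/-- Restricting the base of a transversally regular sequence from a localization. -/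
theorem isTransRegularSeq_of_base {A A' L : Type u} [CommRing A] [CommRing A'] [CommRing L] [Algebra A A']
    [Algebra A' L] [Algebra A L] [IsScalarTower A A' L] (M : Submonoid A) [IsLocalization M A'] (rs : List L) :
    RegImm.IsTransRegularSeq A L rs ↔ RegImm.IsTransRegularSeq A' L rs :=
  and_congr_right fun _ => forall₂_congr fun _ _ => (Module.flat_iff_of_isLocalization A' M _).symm

/-- Transversal regularity can be checked in the local rings. -/
theorem isTransRegularSeq_of_local {A B : Type u} [CommRing A] [CommRing B] [Algebra A B] (rs : List B)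
    (h : ∀ (P : Ideal B) [P.IsMaximal], ∃ (L : Type u) (_ : CommRing L) (_ : Algebra A L) (_ : Algebra B L)
      (_ : IsScalarTower A B L) (_ : IsLocalization.AtPrime L P),
      RegImm.IsTransRegularSeq A L (rs.map (algebraMap B L))) :
    RegImm.IsTransRegularSeq A B rs := by
  refine ⟨?_, fun k hk => ?_⟩
  · rw [H29Slice.isWeaklyRegular_iff_elementwise]
    intro i hi x hx
    by_contra hxJ
    let I := (Ideal.ofList (rs.take i)).colon ({x} : Set B)
    obtain ⟨P, hP, hle⟩ := Ideal.exists_le_maximal I fun htop => hxJ (by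
      simpa [I, Submodule.mem_colon_singleton] using (htop ▸ Submodule.mem_top : (1 : B) ∈ I))
    obtain ⟨L, _, _, _, _, _, hL⟩ := @h P hP
    have h' := (H29Slice.isWeaklyRegular_iff_elementwise _).1 hL.1 i (by simpa using hi)
      (algebraMap B L x) (by
        rw [List.getElem_map, ← map_mul, ← List.map_take, ← Ideal.map_ofList]
        exact Ideal.mem_map_of_mem _ hx)
    rw [← List.map_take, ← Ideal.map_ofList,
      IsLocalization.algebraMap_mem_map_algebraMap_iff P.primeCompl] at h'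
    obtain ⟨t, ht, htx⟩ := h'
    exact ht (hle (Submodule.mem_colon_singleton.2 htx))
  · refine Module.flat_of_isLocalized_maximal (R := A) (S := B) (B ⧸ Ideal.ofList (rs.take k))
      (fun P _ => LocalizedModule P.primeCompl (B ⧸ Ideal.ofList (rs.take k)))
      (fun P _ => LocalizedModule.mkLinearMap _ _) fun P hP => ?_
    obtain ⟨L, _, _, _, _, _, hL⟩ := @h P hP
    set J := Ideal.ofList (rs.take k)
    have hf := hL.2 k (by simpa using hk)
    rw [← List.map_take, ← Ideal.map_ofList] at hf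
    haveI : IsLocalizedModule.AtPrime P
        (IsScalarTower.toAlgHom B (B ⧸ J) (L ⧸ J.map (algebraMap B L))).toLinearMap :=
      isLocalizedModule_iff_isLocalization.2 inferInstance
    haveI : Module.Flat A (L ⧸ J.map (algebraMap B L)) := hf
    exact Module.Flat.of_linearEquiv ((IsLocalizedModule.iso P.primeCompl
      (IsScalarTower.toAlgHom B (B ⧸ J) (L ⧸ J.map (algebraMap B L))).toLinearMap).restrictScalars A)

end Groth.Agent.H7Lim.TransReg
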