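import Groth.Agent.H7Lim.TransReg.Ring
import Groth.Agent.H7Lim.Sections
import Groth.Agent.H29Blow.PointsOfAffine

/-!
# Transversally regular sections over a cofiltered limit of schemes
-/

set_option autoImplicit false
set_option linter.style.haveILetI false
set_option maxHeartbeats 1000000

universe u

open CategoryTheory CategoryTheory.Limits AlgebraicGeometry TensorProduct
open Groth.Agent.H02CA.ColimTensor (Hom Approx)

namespace Groth.Agent.H7Lim.TransReg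

variable {X S : Scheme.{u}} (g : X ⟶ S)

/-- A sequence in the local ring is transversally regular relative to the local ring below. -/
def TRStalk (x : X) (ls : List (X.presheaf.stalk x)) : Prop :=
  @RegImm.IsTransRegularSeq (S.presheaf.stalk (g x)) (X.presheaf.stalk x) _ _ (g.stalkMap x).hom.toAlgebra ls

/-- A sequence of sections is transversally regular on a pair of charts. -/
def TRSec {U : X.Opens} {V : S.Opens} (e : U ≤ g ⁻¹ᵁ V) (ls : List Γ(X, U)) : Prop :=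
  @RegImm.IsTransRegularSeq Γ(S, V) Γ(X, U) _ _ (g.appLE V U e).hom.toAlgebra ls

/-- The germs of the sections are transversally regular in the local ring. -/
def TRAt (fs : List Γ(X, ⊤)) (x : X) : Prop :=
  letI := (g.stalkMap x).hom.toAlgebra
  RegImm.IsTransRegularSeq (S.presheaf.stalk (g x)) (X.presheaf.stalk x)
    (fs.map fun f => X.presheaf.germ ⊤ x trivial f)

/-- The sections are transversally regular on a pair of affine charts. -/
def TRChart (fs : List Γ(X, ⊤)) {U : X.Opens} {V : S.Opens} (e : U ≤ g ⁻¹ᵁ V) : Prop :=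
  @RegImm.IsTransRegularSeq Γ(S, V) Γ(X, U) _ _ (g.appLE V U e).hom.toAlgebra
    (fs.map fun f => (X.presheaf.map (homOfLE (le_top : U ≤ ⊤)).op).hom f)

theorem germ_appLE {U : X.Opens} {V : S.Opens} (e : U ≤ g ⁻¹ᵁ V) (x : X) (hx : x ∈ U) (a : Γ(S, V)) :
    X.presheaf.germ U x hx (g.appLE V U e a) = g.stalkMap x (S.presheaf.germ V (g x) (e hx) a) := by
  rw [Scheme.Hom.germ_stalkMap_apply]
  simp [Scheme.Hom.appLE]

theorem trStalk_of_sec {U : X.Opens} (hU : IsAffineOpen U) {V : S.Opens}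
    (hV : IsAffineOpen V) (e : U ≤ g ⁻¹ᵁ V) (ls : List Γ(X, U)) (h : TRSec g e ls) (x : X) (hx : x ∈ U) :
    TRStalk g x (ls.map fun f => X.presheaf.germ U x hx f) := by
  letI := (g.appLE V U e).hom.toAlgebra
  letI := (g.stalkMap x).hom.toAlgebra
  letI : Algebra Γ(X, U) (X.presheaf.stalk x) := (X.presheaf.germ U x hx).hom.toAlgebra
  haveI : IsLocalization.AtPrime (X.presheaf.stalk x) (hU.primeIdealOf ⟨x, hx⟩).asIdeal :=
    hU.isLocalization_stalk ⟨x, hx⟩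
  letI : Algebra Γ(S, V) (S.presheaf.stalk (g x)) := (S.presheaf.germ V (g x) (e hx)).hom.toAlgebra
  haveI : IsLocalization.AtPrime (S.presheaf.stalk (g x)) (hV.primeIdealOf ⟨g x, e hx⟩).asIdeal :=
    hV.isLocalization_stalk ⟨g x, e hx⟩
  letI : Algebra Γ(S, V) (X.presheaf.stalk x) :=
    ((X.presheaf.germ U x hx).hom.comp (g.appLE V U e).hom).toAlgebra
  haveI : IsScalarTower Γ(S, V) Γ(X, U) (X.presheaf.stalk x) := .of_algebraMap_eq fun _ => rfl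
  haveI : IsScalarTower Γ(S, V) (S.presheaf.stalk (g x)) (X.presheaf.stalk x) :=
    .of_algebraMap_eq fun a => germ_appLE g e x hx a
  have h1 := (isTransRegularSeq_of_base (A' := S.presheaf.stalk (g x))
    (hV.primeIdealOf ⟨g x, e hx⟩).asIdeal.primeCompl _).1
    (H9CI.isTransRegularSeq_localization (L := X.presheaf.stalk x) (hU.primeIdealOf ⟨x, hx⟩).asIdeal.primeCompl h)
  exact h1

theorem sec_of_trStalk {U : X.Opens} (hU : IsAffineOpen U) {V : S.Opens}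
    (hV : IsAffineOpen V) (e : U ≤ g ⁻¹ᵁ V) (ls : List Γ(X, U))
    (h : ∀ (x : X) (hx : x ∈ U), TRStalk g x (ls.map fun f => X.presheaf.germ U x hx f)) : TRSec g e ls := by
  letI := (g.appLE V U e).hom.toAlgebra
  let pt : ∀ P : Ideal Γ(X, U), [P.IsMaximal] → U := fun P _ =>
    ⟨hU.fromSpec ⟨P, inferInstance⟩, by
      rw [← SetLike.mem_coe, ← hU.range_fromSpec]; exact ⟨_, rfl⟩⟩
  refine isTransRegularSeq_of_local _ fun P _ => ?_
  letI : Algebra Γ(X, U) (X.presheaf.stalk (pt P).1) :=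
    (X.presheaf.germ U (pt P).1 (pt P).2).hom.toAlgebra
  letI : Algebra Γ(S, V) (X.presheaf.stalk (pt P).1) :=
    ((X.presheaf.germ U (pt P).1 (pt P).2).hom.comp (g.appLE V U e).hom).toAlgebra
  haveI : IsScalarTower Γ(S, V) Γ(X, U) (X.presheaf.stalk (pt P).1) := .of_algebraMap_eq fun _ => rfl
  refine ⟨X.presheaf.stalk (pt P).1, inferInstance, inferInstance, inferInstance, inferInstance,
    hU.isLocalization_stalk' ⟨P, inferInstance⟩ (pt P).2, ?_⟩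
  letI := (g.stalkMap (pt P).1).hom.toAlgebra
  letI : Algebra Γ(S, V) (S.presheaf.stalk (g (pt P).1)) :=
    (S.presheaf.germ V (g (pt P).1) (e (pt P).2)).hom.toAlgebra
  haveI : IsLocalization.AtPrime (S.presheaf.stalk (g (pt P).1))
      (hV.primeIdealOf ⟨g (pt P).1, e (pt P).2⟩).asIdeal :=
    hV.isLocalization_stalk ⟨g (pt P).1, e (pt P).2⟩
  haveI : IsScalarTower Γ(S, V) (S.presheaf.stalk (g (pt P).1)) (X.presheaf.stalk (pt P).1) :=
    .of_algebraMap_eq fun a => germ_appLE g e (pt P).1 (pt P).2 a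
  refine (isTransRegularSeq_of_base (A' := S.presheaf.stalk (g (pt P).1))
    (hV.primeIdealOf ⟨g (pt P).1, e (pt P).2⟩).asIdeal.primeCompl _).2 ?_
  exact h (pt P).1 (pt P).2

theorem trAt_iff_trStalk (fs : List Γ(X, ⊤)) {U : X.Opens} (x : X) (hx : x ∈ U) :
    TRAt g fs x ↔ TRStalk g x
      ((fs.map fun f => (X.presheaf.map (homOfLE (le_top : U ≤ ⊤)).op).hom f).map fun f => X.presheaf.germ U x hx f) := by
  rw [List.map_map]
  exact Iff.of_eq (congrArg (TRStalk g x) (List.map_congr_left fun f _ =>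
    (TopCat.Presheaf.germ_res_apply X.presheaf (homOfLE le_top) x hx f).symm))

theorem trAt_of_chart (fs : List Γ(X, ⊤)) {U : X.Opens} (hU : IsAffineOpen U) {V : S.Opens}
    (hV : IsAffineOpen V) (e : U ≤ g ⁻¹ᵁ V) (h : TRChart g fs e) (x : X) (hx : x ∈ U) : TRAt g fs x :=
  (trAt_iff_trStalk g fs x hx).2 (trStalk_of_sec g hU hV e _ h x hx)

theorem chart_of_trAt (fs : List Γ(X, ⊤)) {U : X.Opens} (hU : IsAffineOpen U) {V : S.Opens}
    (hV : IsAffineOpen V) (e : U ≤ g ⁻¹ᵁ V) (h : ∀ x ∈ U, TRAt g fs x) : TRChart g fs e :=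
  sec_of_trStalk g hU hV e _ fun x hx => (trAt_iff_trStalk g fs x hx).1 (h x hx)

/-- Restricting a transversally regular sequence of sections to a smaller pair of charts. -/
theorem trSec_res {U U' : X.Opens} (hU : IsAffineOpen U) (hU' : IsAffineOpen U') {V V' : S.Opens}
    (hV : IsAffineOpen V) (hV' : IsAffineOpen V') (e : U ≤ g ⁻¹ᵁ V) (e' : U' ≤ g ⁻¹ᵁ V') (h : U' ≤ U)
    (ls : List Γ(X, U)) (hls : TRSec g e ls) :
    TRSec g e' (ls.map fun f => (X.presheaf.map (homOfLE h).op).hom f) := by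
  refine sec_of_trStalk g hU' hV' e' _ fun x hx => ?_
  rw [List.map_map]
  exact Eq.mp (congrArg (TRStalk g x) (List.map_congr_left fun f _ =>
    (TopCat.Presheaf.germ_res_apply X.presheaf (homOfLE h) x hx f).symm))
    (trStalk_of_sec g hU hV e ls hls x (h hx))

theorem forall_chart_iff (fs : List Γ(X, ⊤)) :
    (∀ (U : X.affineOpens) (V : S.affineOpens) (e : U.1 ≤ g ⁻¹ᵁ V.1), TRChart g fs e) ↔
      ∀ x, TRAt g fs x := by
  refine ⟨fun h x => ?_, fun h U V e => chart_of_trAt g fs U.2 V.2 e fun x _ => h x⟩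
  obtain ⟨V, hV, hxV, -⟩ := exists_isAffineOpen_mem_and_subset (x := g x) (U := (⊤ : S.Opens)) trivial
  obtain ⟨U, hU, hxU, hle⟩ := exists_isAffineOpen_mem_and_subset (x := x) (U := g ⁻¹ᵁ V) hxV
  exact trAt_of_chart g fs hU hV hle (h ⟨U, hU⟩ ⟨V, hV⟩ hle) x hxU

/-- Transversal regularity on an affine chart of a base change. -/
theorem sec_square_iff {S' P : Scheme.{u}} {b : S' ⟶ S} {pr : P ⟶ X} {q : P ⟶ S'}
    (HS : IsPullback pr q g b) [IsAffineHom b] {W : X.Opens} (hW : IsAffineOpen W)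
    {V : S.Opens} (hV : IsAffineOpen V) (e : W ≤ g ⁻¹ᵁ V) (ls : List Γ(X, W)) :
    ∃ (hU : IsAffineOpen (pr ⁻¹ᵁ W)) (e' : pr ⁻¹ᵁ W ≤ q ⁻¹ᵁ (b ⁻¹ᵁ V)),
      TRSec q e' (ls.map fun f => pr.appLE W (pr ⁻¹ᵁ W) le_rfl f) ↔
        letI := (g.appLE V W e).hom.toAlgebra
        letI := (b.appLE V (b ⁻¹ᵁ V) le_rfl).hom.toAlgebra
        RegImm.IsTransRegularSeq Γ(S', b ⁻¹ᵁ V) (Γ(S', b ⁻¹ᵁ V) ⊗[Γ(S, V)] Γ(X, W))
          (ls.map
            fun f => (1 : Γ(S', b ⁻¹ᵁ V)) ⊗ₜ[Γ(S, V)] f) := by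
  let V' := b ⁻¹ᵁ V
  have hV' : IsAffineOpen V' := hV.preimage b
  have e' : pr ⁻¹ᵁ W ≤ q ⁻¹ᵁ V' := fun z hz => by
    show b (q z) ∈ V
    rw [← Scheme.Hom.comp_apply, ← HS.w, Scheme.Hom.comp_apply]
    exact e hz
  have hUY : pr ⁻¹ᵁ W = pr ⁻¹ᵁ W ⊓ q ⁻¹ᵁ V' := (inf_eq_left.2 e').symm
  haveI := isIso_pushoutSection_of_isAffineOpen (UY := pr ⁻¹ᵁ W) HS (le_refl V') e hUY hV hV' hW
  have hU : IsAffineOpen (pr ⁻¹ᵁ W) := by
    haveI : IsAffine V.toScheme := hV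
    haveI : IsAffine V'.toScheme := hV'
    haveI : IsAffine W.toScheme := hW
    exact .of_isIso (Scheme.Hom.isPullback_resLE HS (le_refl V') e hUY).isoPullback.hom
  refine ⟨hU, e', ?_⟩
  have hpush := (isIso_pushoutSection_iff (UY := pr ⁻¹ᵁ W) HS (le_refl V') e hUY).mp inferInstance
  letI := (g.appLE V W e).hom.toAlgebra
  letI := (b.appLE V V' le_rfl).hom.toAlgebra
  letI := (pr.appLE W (pr ⁻¹ᵁ W) le_rfl).hom.toAlgebra
  letI := (q.appLE V' (pr ⁻¹ᵁ W) e').hom.toAlgebra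
  letI : Algebra Γ(S, V) Γ(P, pr ⁻¹ᵁ W) :=
    (g.appLE V W e ≫ pr.appLE W (pr ⁻¹ᵁ W) le_rfl).hom.toAlgebra
  haveI : IsScalarTower Γ(S, V) Γ(X, W) Γ(P, pr ⁻¹ᵁ W) := IsScalarTower.of_algebraMap_eq' rfl
  haveI : IsScalarTower Γ(S, V) Γ(S', V') Γ(P, pr ⁻¹ᵁ W) :=
    IsScalarTower.of_algebraMap_eq' (congrArg CommRingCat.Hom.hom hpush.w)
  haveI : Algebra.IsPushout Γ(S, V) Γ(S', V') Γ(X, W) Γ(P, pr ⁻¹ᵁ W) :=
    CommRingCat.isPushout_iff_isPushout.mp hpush.flip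
  let E : Γ(S', V') ⊗[Γ(S, V)] Γ(X, W) ≃ₐ[Γ(S', V')] Γ(P, pr ⁻¹ᵁ W) :=
    Algebra.IsPushout.equiv Γ(S, V) Γ(S', V') Γ(X, W) Γ(P, pr ⁻¹ᵁ W)
  have hlist : (ls.map fun f => (1 : Γ(S', V')) ⊗ₜ[Γ(S, V)] f).map E =
      ls.map fun f => pr.appLE W (pr ⁻¹ᵁ W) le_rfl f := by
    rw [List.map_map]
    refine List.map_congr_left fun f _ => ?_
    refine (Algebra.IsPushout.equiv_tmul (R := Γ(S, V)) (S := Γ(S', V')) (R' := Γ(X, W))
      (S' := Γ(P, pr ⁻¹ᵁ W)) 1 _).trans ?_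
    rw [map_one, one_mul]
    rfl
  constructor
  · intro h
    have := H29Slice.isTransRegularSeq_of_algEquiv E.symm
      (show RegImm.IsTransRegularSeq Γ(S', V') Γ(P, pr ⁻¹ᵁ W) _ from h)
    rw [← hlist, List.map_map] at this
    refine Eq.mp (congrArg (RegImm.IsTransRegularSeq Γ(S', V') (Γ(S', V') ⊗[Γ(S, V)] Γ(X, W))) ?_) this
    exact (List.map_congr_left fun x _ => E.symm_apply_apply x).trans (List.map_id _)
  · intro h
    have := H29Slice.isTransRegularSeq_of_algEquiv E h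
    rw [hlist] at this
    exact this

variable {I : Type u} [SmallCategory I] [IsCofiltered I] {D : I ⥤ Scheme.{u}} {c : Cone D}
  [∀ (i j : I) (f : i ⟶ j), IsAffineHom (D.map f)] (hc : IsLimit c)

include hc in
/-- Transversal regularity on a chart descends to a stage and persists afterwards. -/
theorem sec_limit_iff (i : I) {X₀ : Scheme.{u}} (g₀ : X₀ ⟶ D.obj i) [LocallyOfFinitePresentation g₀]
    {W : X₀.Opens} (hW : IsAffineOpen W) {V : (D.obj i).Opens} (hV : IsAffineOpen V) (e : W ≤ g₀ ⁻¹ᵁ V)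
    (L : List Γ(X₀, W)) {Plim : Scheme.{u}} {pr : Plim ⟶ X₀} {q : Plim ⟶ c.pt} (H : IsPullback pr q g₀ (c.π.app i))
    (elim : pr ⁻¹ᵁ W ≤ q ⁻¹ᵁ (c.π.app i ⁻¹ᵁ V)) :
    (TRSec q elim (L.map fun f => pr.appLE W (pr ⁻¹ᵁ W) le_rfl f) →
      ∃ (j : I) (φ : j ⟶ i), ∀ (j' : I) (ψ : j' ⟶ j) {P : Scheme.{u}} {pr' : P ⟶ X₀} {q' : P ⟶ D.obj j'}
        (_ : IsPullback pr' q' g₀ (D.map (ψ ≫ φ))) (e' : pr' ⁻¹ᵁ W ≤ q' ⁻¹ᵁ (D.map (ψ ≫ φ) ⁻¹ᵁ V)),
        TRSec q' e' (L.map fun f => pr'.appLE W (pr' ⁻¹ᵁ W) le_rfl f)) ∧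
    ∀ (j : I) (φ : j ⟶ i) {P : Scheme.{u}} {pr' : P ⟶ X₀} {q' : P ⟶ D.obj j}
        (_ : IsPullback pr' q' g₀ (D.map φ)) (e' : pr' ⁻¹ᵁ W ≤ q' ⁻¹ᵁ (D.map φ ⁻¹ᵁ V)),
        TRSec q' e' (L.map fun f => pr'.appLE W (pr' ⁻¹ᵁ W) le_rfl f) →
          TRSec q elim (L.map fun f => pr.appLE W (pr ⁻¹ᵁ W) le_rfl f) := by
  haveI := isAffineHom_π_app D c hc i
  letI := (g₀.appLE V W e).hom.toAlgebra
  haveI : Algebra.FinitePresentation Γ(D.obj i, V) Γ(X₀, W) :=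
    LocallyOfFinitePresentation.finitePresentation_appLE g₀ hV hW e
  let G : Over i → Type u := fun k => Γ(D.obj k.left, D.map k.hom ⁻¹ᵁ V)
  letI (k : Over i) : CommRing (G k) := inferInstanceAs (CommRing Γ(D.obj k.left, D.map k.hom ⁻¹ᵁ V))
  letI (k : Over i) : Algebra Γ(D.obj i, V) (G k) := ((D.map k.hom).appLE V _ le_rfl).hom.toAlgebra
  letI : Algebra Γ(D.obj i, V) Γ(c.pt, c.π.app i ⁻¹ᵁ V) :=
    ((c.π.app i).appLE V (c.π.app i ⁻¹ᵁ V) le_rfl).hom.toAlgebra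
  let γ : ∀ k, G k →ₐ[Γ(D.obj i, V)] Γ(c.pt, c.π.app i ⁻¹ᵁ V) := fun k =>
    { (secπ k.hom V).hom with
      commutes' := fun a => by
        show secπ k.hom V ((D.map k.hom).appLE V _ le_rfl a) = (c.π.app i).appLE V _ le_rfl a
        simp [secπ, ← ConcreteCategory.comp_apply, Scheme.Hom.appLE_comp_appLE] }
  have hle : ∀ {k k' : Over i} (ψ : k' ⟶ k), D.map k'.hom ⁻¹ᵁ V ≤ D.map ψ.left ⁻¹ᵁ D.map k.hom ⁻¹ᵁ V :=
    fun {k k'} ψ => by rw [← Scheme.Hom.comp_preimage, ← D.map_comp, Over.w ψ]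
  let mk : ∀ {k k' : Over i} (_ : k' ⟶ k), Hom γ k k' := fun {k k'} ψ =>
    ⟨{ ((D.map ψ.left).appLE _ _ (hle ψ)).hom with
        commutes' := fun a => by
          show (D.map ψ.left).appLE _ _ (hle ψ) ((D.map k.hom).appLE V _ le_rfl a) =
            (D.map k'.hom).appLE V _ le_rfl a
          rw [← ConcreteCategory.comp_apply, Scheme.Hom.appLE_comp_appLE]
          simp [← D.map_comp, Over.w ψ] },
      AlgHom.ext fun a => by
        show secπ k'.hom V ((D.map ψ.left).appLE _ _ (hle ψ) a) = secπ k.hom V a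
        simp [secπ, ← ConcreteCategory.comp_apply, Scheme.Hom.appLE_comp_appLE, c.w]⟩
  have hG : Approx γ G Γ(c.pt, c.π.app i ⁻¹ᵁ V) (fun k => γ k) (fun φ => φ.1) :=
    { compat := fun φ x => AlgHom.congr_fun φ.2 x
      comp := fun _ _ _ => rfl
      dir := fun k k' => ⟨IsCofiltered.min k k', ⟨mk (IsCofiltered.minToLeft k k')⟩,
        ⟨mk (IsCofiltered.minToRight k k')⟩⟩
      ne := ⟨Over.mk (𝟙 i)⟩
      surj := fun a => by
        obtain ⟨j, φ, t, ht⟩ := exists_secπ_eq hc hV a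
        exact ⟨Over.mk φ, t, ht⟩
      eq := fun k x y h => by
        obtain ⟨m, ψ, hψ⟩ := exists_secMap_eq hc k.hom hV.isCompact x y h
        exact ⟨Over.mk (ψ ≫ k.hom), mk (Over.homMk ψ), hψ⟩ }
  let St : Over i → Prop := fun k =>
    RegImm.IsTransRegularSeq (G k) (G k ⊗[Γ(D.obj i, V)] Γ(X₀, W)) (L.map fun f => (1 : G k) ⊗ₜ f)
  obtain ⟨hU, e₁, hlim⟩ := sec_square_iff g₀ H hW hV e L
  refine ⟨fun h => ?_, fun j φ P pr' q' H' e' h => ?_⟩
  · obtain ⟨k, hk'⟩ := exists_transReg_stage hG Γ(X₀, W) L (hlim.1 h)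
    refine ⟨k.left, k.hom, fun j' ψ P pr' q' H' e' => ?_⟩
    obtain ⟨_, _, hst⟩ := sec_square_iff g₀ H' hW hV e L
    exact hst.2 (isTransRegularSeq_tensor_map (mk (Over.homMk ψ : Over.mk (ψ ≫ k.hom) ⟶ k)).1 L hk')
  · obtain ⟨_, _, hst⟩ := sec_square_iff g₀ H' hW hV e L
    exact hlim.2 (isTransRegularSeq_tensor_map (γ (Over.mk φ)) L (hst.1 h))

omit [IsCofiltered I] [∀ (i j : I) (f : i ⟶ j), IsAffineHom (D.map f)] in
theorem trChart_map_iff {X₀ P T : Scheme.{u}} (pr : P ⟶ X₀) (q : P ⟶ T) (fs : List Γ(X₀, ⊤)) {W : X₀.Opens}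
    {V : T.Opens} (e : pr ⁻¹ᵁ W ≤ q ⁻¹ᵁ V) :
    TRChart q (fs.map pr.appTop.hom) e ↔
      TRSec q e ((fs.map fun f => (X₀.presheaf.map (homOfLE (le_top : W ≤ ⊤)).op).hom f).map
        fun f => pr.appLE W (pr ⁻¹ᵁ W) le_rfl f) := by
  refine Iff.of_eq (congrArg (TRSec q e) ?_)
  rw [List.map_map, List.map_map]
  refine List.map_congr_left fun f _ => ?_
  show P.presheaf.map (homOfLE (le_top : pr ⁻¹ᵁ W ≤ ⊤)).op (pr.appTop f) =
    pr.appLE W (pr ⁻¹ᵁ W) le_rfl (X₀.presheaf.map (homOfLE (le_top : W ≤ ⊤)).op f)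
  rw [← ConcreteCategory.comp_apply, ← ConcreteCategory.comp_apply, Scheme.Hom.map_appLE]
  rfl

include hc in
/-- Transversal regularity of sections over a limit holds over some stage. -/
theorem trAt_limit_iff (i : I) {X₀ : Scheme.{u}} (g₀ : X₀ ⟶ D.obj i) [CompactSpace X₀]
    [LocallyOfFinitePresentation g₀] (fs : List Γ(X₀, ⊤)) :
    (∀ x, TRAt (pullback.snd g₀ (c.π.app i)) (fs.map (pullback.fst g₀ (c.π.app i)).appTop.hom) x) ↔
      ∃ (j : I) (φ : j ⟶ i), ∀ x,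
        TRAt (pullback.snd g₀ (D.map φ)) (fs.map (pullback.fst g₀ (D.map φ)).appTop.hom) x := by
  haveI := isAffineHom_π_app D c hc i
  have hchart : ∀ x : X₀, ∃ (W : X₀.Opens) (V : (D.obj i).Opens), IsAffineOpen W ∧ IsAffineOpen V ∧
      W ≤ g₀ ⁻¹ᵁ V ∧ x ∈ W := by
    intro x
    obtain ⟨V, hV, hxV, -⟩ := exists_isAffineOpen_mem_and_subset (x := g₀ x) (U := (⊤ : (D.obj i).Opens)) trivial
    obtain ⟨W, hW, hxW, hle⟩ := exists_isAffineOpen_mem_and_subset (x := x) (U := g₀ ⁻¹ᵁ V) hxV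
    exact ⟨W, V, hW, hV, hle, hxW⟩
  choose W V hW hV hWV hxW using hchart
  let R : ∀ x : X₀, List Γ(X₀, W x) := fun x => fs.map fun f => (X₀.presheaf.map (homOfLE (le_top : W x ≤ ⊤)).op).hom f
  have hsq : ∀ (x : X₀), ∃ (hU : IsAffineOpen (pullback.fst g₀ (c.π.app i) ⁻¹ᵁ W x))
      (e' : pullback.fst g₀ (c.π.app i) ⁻¹ᵁ W x ≤ pullback.snd g₀ (c.π.app i) ⁻¹ᵁ (c.π.app i ⁻¹ᵁ V x)),
      True := fun x => by
    obtain ⟨hU, e', -⟩ := sec_square_iff g₀ (IsPullback.of_hasPullback g₀ (c.π.app i)) (hW x) (hV x) (hWV x) []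
    exact ⟨hU, e', trivial⟩
  choose hUlim elim _ using hsq
  constructor
  · intro h
    obtain ⟨s, hs⟩ := isCompact_univ.elim_finite_subcover (fun x : X₀ => (W x : Set X₀))
      (fun x => (W x).2) (fun x _ => Set.mem_iUnion.2 ⟨x, hxW x⟩)
    choose j φ hj using fun x : s =>
      (sec_limit_iff hc i g₀ (hW x.1) (hV x.1) (hWV x.1) (R x.1) (IsPullback.of_hasPullback g₀ (c.π.app i))
        (elim x.1)).1 ((trChart_map_iff _ _ fs (elim x.1)).1
          (chart_of_trAt _ _ (hUlim x.1) ((hV x.1).preimage _) (elim x.1) fun z _ => h z))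
    obtain ⟨n, ⟨ε⟩⟩ := Finite.exists_equiv_fin s
    obtain ⟨m, φm, ψ, hψ⟩ := IsCofiltered.wideCospan fun b => φ (ε.symm b)
    refine ⟨m, φm, fun z => ?_⟩
    obtain ⟨x, hx, hzx⟩ := Set.mem_iUnion₂.1 (hs (Set.mem_univ (pullback.fst g₀ (D.map φm) z)))
    obtain ⟨b, hb⟩ : ∃ b, ε.symm b = ⟨x, hx⟩ := ε.symm.surjective _
    have key : ∀ (φ' : m ⟶ i), φ' = φm → ∀ z : ↥(pullback g₀ (D.map φ')),
        pullback.fst g₀ (D.map φ') z ∈ W (ε.symm b).1 →
          TRAt (pullback.snd g₀ (D.map φ')) (fs.map (pullback.fst g₀ (D.map φ')).appTop.hom) z := by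
      intro φ' hφ' z hz
      obtain rfl : φ' = ψ b ≫ φ (ε.symm b) := hφ'.trans (hψ _).symm
      obtain ⟨hU, e', -⟩ := sec_square_iff g₀ (IsPullback.of_hasPullback g₀ (D.map (ψ b ≫ φ (ε.symm b))))
        (hW (ε.symm b).1) (hV (ε.symm b).1) (hWV (ε.symm b).1) []
      exact trAt_of_chart _ _ hU ((hV (ε.symm b).1).preimage _) e'
        ((trChart_map_iff _ _ fs e').2 (hj (ε.symm b) m (ψ b) (IsPullback.of_hasPullback _ _) e')) z hz
    exact key φm rfl z (by rw [hb]; exact hzx)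
  · rintro ⟨j, φ, h⟩ z
    let x := pullback.fst g₀ (c.π.app i) z
    obtain ⟨hU, e', -⟩ := sec_square_iff g₀ (IsPullback.of_hasPullback g₀ (D.map φ)) (hW x) (hV x) (hWV x) []
    exact trAt_of_chart _ _ (hUlim x) ((hV x).preimage _) (elim x) ((trChart_map_iff _ _ fs (elim x)).2
      ((sec_limit_iff hc i g₀ (hW x) (hV x) (hWV x) (R x) (IsPullback.of_hasPullback g₀ (c.π.app i)) (elim x)).2
        j φ (IsPullback.of_hasPullback _ _) e' ((trChart_map_iff _ _ fs e').1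
          (chart_of_trAt _ _ hU ((hV x).preimage _) e' fun w _ => h w)))) z (hxW x)

end Groth.Agent.H7Lim.TransReg
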